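import Cfsg.Agent.Lib.Transfer.Product.Split.Basic
import Cfsg.Agent.Lib.Transfer.HallWielandt

/-!
# Moving an element of a Sylow 2-subgroup by transfer
-/

set_option linter.unusedSectionVars false
set_option linter.style.haveILetI false

namespace Cfsg.Agent.Fus.SDProduct

open Cfsg.Agent.Transfer.HallWielandt

universe u

variable {G : Type u} [Group G] [Finite G]

/-- An element whose even powers only meet the maximal subgroup `M` moves into `M`, taking a given
2-subgroup of its centralizer into the Sylow subgroup. -/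
theorem exists_move_pow (h2 : ∀ N : Subgroup G, N.Normal → N.index ≠ 2) (P : Sylow 2 G)
    {M : Subgroup G} (hM : M.relIndex (P : Subgroup G) = 2) {x : G} (hx : x ∈ (P : Subgroup G))
    (hpow : ∀ l : ℕ, 2 ∣ l → ∀ g : G, g * x ^ l * g⁻¹ ∈ (P : Subgroup G) → g * x ^ l * g⁻¹ ∈ M)
    {T : Subgroup G} (hT : IsPGroup 2 T) (hTx : ∀ t ∈ T, Commute t x) :
    ∃ g : G, (∀ t ∈ T, g * t * g⁻¹ ∈ (P : Subgroup G)) ∧ g * x * g⁻¹ ∈ (P : Subgroup G) ∧
      g * x * g⁻¹ ∈ M := by
  classical
  haveI : Fact (Nat.Prime 2) := ⟨Nat.prime_two⟩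
  set M' := M.subgroupOf (P : Subgroup G) with hM'
  have hi : M'.index = 2 := hM
  obtain ⟨ι, hι, hιι, hιu⟩ : ∃ ι : Multiplicative (ZMod 2), ι ≠ 1 ∧ ι * ι = 1 ∧
      ∀ z : Multiplicative (ZMod 2), z ≠ 1 → z = ι :=
    ⟨Multiplicative.ofAdd 1, by decide +revert, by decide +revert, by decide +revert⟩
  let φ : ↥(P : Subgroup G) →* Multiplicative (ZMod 2) :=
    MonoidHom.mk' (fun y => if y ∈ M' then 1 else ι) fun y z => by
      have hyz := Subgroup.mul_mem_iff_of_index_two hi (a := y) (b := z)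
      by_cases ha : y ∈ M' <;> by_cases hb : z ∈ M' <;> simp_all
  have hφ : ∀ y : ↥(P : Subgroup G), φ y = 1 ↔ (y : G) ∈ M := fun y => by
    show (if y ∈ M' then (1 : Multiplicative (ZMod 2)) else ι) = 1 ↔ _
    by_cases hy : y ∈ M' <;> simp_all [Subgroup.mem_subgroupOf]
  have hVx : MonoidHom.transfer φ x = 1 := by
    by_contra hne
    refine h2 (MonoidHom.transfer φ).ker inferInstance ?_
    rw [Subgroup.index_ker]
    have hle : Nat.card (MonoidHom.transfer φ).range ≤ 2 := by
      refine (Subgroup.card_le_card_group _).trans (le_of_eq ?_)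
      simp
    have hge : 1 < Nat.card (MonoidHom.transfer φ).range := Finite.one_lt_card_iff_nontrivial.2
      ⟨⟨⟨_, x, rfl⟩, 1, fun e => hne (congrArg Subtype.val e)⟩⟩
    omega
  obtain ⟨k, hk⟩ := IsPGroup.iff_orderOf.1 P.isPGroup' ⟨x, hx⟩
  rw [Subgroup.orderOf_mk] at hk
  haveI := Fintype.ofFinite (G ⧸ (P : Subgroup G))
  rw [transfer_eq_prod_fixed φ x fun z l hl hdvd h => by
    rw [hφ]
    obtain ⟨i, -, rfl⟩ := (Nat.dvd_prime_pow Nat.prime_two).1 (hk ▸ hdvd)
    have hi0 : i ≠ 0 := by rintro rfl; simp at hl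
    simpa using hpow _ (dvd_pow_self 2 hi0) z⁻¹ (by simpa using h)] at hVx
  have heven : Even (Finset.univ.filter fun q : G ⧸ (P : Subgroup G) => fixVal φ x q ≠ 1).card := by
    rw [← Finset.prod_filter_ne_one,
      Finset.prod_eq_pow_card (b := ι) fun q hq => hιu _ (Finset.mem_filter.1 hq).2] at hVx
    have ho : orderOf ι = 2 := orderOf_eq_prime (by rw [pow_two]; exact hιι) hι
    have hd := orderOf_dvd_of_pow_eq_one hVx
    rw [ho] at hd
    exact even_iff_two_dvd.2 hd
  have hxp : IsPGroup 2 (Subgroup.zpowers x) :=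
    IsPGroup.of_card (n := k) (by rw [Nat.card_zpowers, hk])
  have hodd : Odd (Nat.card {q : G ⧸ (P : Subgroup G) // x • q = q}) := by
    have h := Invol.card_invariant_modEq hxp (fun _ : G ⧸ (P : Subgroup G) => True)
      fun _ _ _ _ => trivial
    have e : Nat.card {q : G ⧸ (P : Subgroup G) // True ∧ ∀ r ∈ Subgroup.zpowers x, r • q = q} =
        Nat.card {q : G ⧸ (P : Subgroup G) // x • q = q} :=
      Nat.card_congr (Equiv.subtypeEquivRight fun q =>
        ⟨fun h => h.2 x (Subgroup.mem_zpowers x), fun h => ⟨trivial, fun r hr => by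
          obtain ⟨i, rfl⟩ := Subgroup.mem_zpowers_iff.1 hr
          exact MulAction.mem_stabilizer_iff.1
            (zpow_mem (MulAction.mem_stabilizer_iff.2 h) i)⟩⟩)
    rw [Nat.card_congr (Equiv.subtypeUnivEquiv fun _ => trivial), e] at h
    have hodd : Odd (Nat.card (G ⧸ (P : Subgroup G))) := by
      rw [← Subgroup.index_eq_card, Nat.odd_iff, ← Nat.two_dvd_ne_zero]
      exact P.not_dvd_index
    rw [Nat.odd_iff] at hodd ⊢
    exact (Eq.trans (show _ % 2 = _ % 2 from h.symm) hodd)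
  set γ : G ⧸ (P : Subgroup G) → Prop := fun q => x • q = q ∧ fixVal φ x q = 1 with hγ
  have hγodd : Odd (Nat.card {q // γ q}) := by
    rw [Nat.subtype_card (Finset.univ.filter fun q : G ⧸ (P : Subgroup G) => x • q = q)
      (fun q => by simp)] at hodd
    rw [Nat.subtype_card (Finset.univ.filter γ) (fun q => by simp)]
    have e : (Finset.univ.filter fun q : G ⧸ (P : Subgroup G) => x • q = q).card =
        (Finset.univ.filter γ).card +
          (Finset.univ.filter fun q : G ⧸ (P : Subgroup G) => fixVal φ x q ≠ 1).card := by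
      rw [← Finset.card_union_of_disjoint]
      · congr 1
        ext q
        simp only [hγ, Finset.mem_filter, Finset.mem_union, Finset.mem_univ, true_and]
        by_cases h1 : fixVal φ x q = 1
        · simp [h1]
        · have : x • q = q := by_contra fun hc => h1 (fixVal_of_ne φ hc)
          simp [h1, this]
      · rw [Finset.disjoint_filter]
        exact fun q _ h => not_not.2 h.2
    rw [Nat.odd_iff] at hodd ⊢
    have := Nat.even_iff.1 heven
    omega
  have hinv : ∀ t ∈ T, ∀ q, γ q → γ (t • q) := fun t ht q hq => by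
    refine ⟨?_, ?_⟩
    · rw [smul_smul, ← (hTx t ht).eq, mul_smul, hq.1]
    · rw [fixVal_smul, show t⁻¹ * x * t = x by
        rw [mul_assoc, ← (hTx t ht).eq, inv_mul_cancel_left]]
      exact hq.2
  have hmod := Invol.card_invariant_modEq hT γ hinv
  obtain ⟨⟨q, hq, hfix⟩⟩ : Nonempty {q // γ q ∧ ∀ t ∈ T, t • q = q} := by
    refine (Nat.card_pos_iff.1 ?_).1
    rw [Nat.odd_iff] at hγodd
    rcases Nat.eq_zero_or_pos (Nat.card {q // γ q ∧ ∀ t ∈ T, t • q = q}) with e | e
    · rw [e, Nat.ModEq, hγodd] at hmod; omega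
    · exact e
  obtain ⟨y, rfl⟩ := QuotientGroup.mk_surjective q
  have hm : y⁻¹ * x * y ∈ (P : Subgroup G) := Invol.smul_mk_eq_iff.1 hq.1
  refine ⟨y⁻¹, fun t ht => ?_, by rwa [inv_inv], ?_⟩
  · rw [inv_inv]; exact Invol.smul_mk_eq_iff.1 (hfix t ht)
  · rw [inv_inv]
    exact (hφ ⟨_, hm⟩).1 ((fixVal_mk φ hm).symm.trans hq.2)

/-- A 2-group commuting with a central element of the Sylow subgroup moves into it by an element
fixing that element. -/
theorem exists_into (P : Sylow 2 G) {z : G} (hz : ∀ p ∈ (P : Subgroup G), Commute p z)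
    {T : Subgroup G} (hT : IsPGroup 2 T) (hTz : ∀ t ∈ T, Commute t z) :
    ∃ c : G, c * z * c⁻¹ = z ∧ ∀ t ∈ T, c * t * c⁻¹ ∈ (P : Subgroup G) := by
  haveI : Fact (Nat.Prime 2) := ⟨Nat.prime_two⟩
  set H := Subgroup.centralizer ({z} : Set G)
  have hPH : (P : Subgroup G) ≤ H := fun p hp =>
    Subgroup.mem_centralizer_singleton_iff.2 (hz p hp).eq
  obtain ⟨c, hc⟩ := Invol.exists_conj_subset_sylow
    (hT.comap_of_injective H.subtype Subtype.val_injective) (P.subtype hPH)
  refine ⟨c, mul_inv_eq_iff_eq_mul.2 (Subgroup.mem_centralizer_singleton_iff.1 c.2), fun t ht => ?_⟩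
  have := hc ⟨t, Subgroup.mem_centralizer_singleton_iff.2 (hTz t ht).eq⟩ ht
  exact (Subgroup.mem_subgroupOf.1 this : ((c * ⟨t, _⟩ * c⁻¹ : H) : G) ∈ (P : Subgroup G))

end Cfsg.Agent.Fus.SDProduct
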