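import Cfsg.Agent.Lib.Fus.SDProduct.Central
import Cfsg.Agent.Lib.Fus.SDProduct.Move
import Cfsg.Agent.Lib.Invol.AbgConsumers.RankTwo
import Cfsg.Agent.S2767

/-!
# A strongly closed quasi-dihedral factor of a Sylow 2-subgroup

Everything here is stated for a product of two strongly closed subgroups of which only the first
is assumed quasi-dihedral.
-/

set_option linter.unusedSectionVars false
set_option linter.style.haveILetI false

namespace Cfsg.Agent.Fus.SDProduct

open Cfsg.Agent.ProdFus (Prod)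
open Cfsg.Agent.ProdFus.Split (Pair InvolClosed conj_mul' commute_conj orderOf_two mul_self_two
  orderOf_conj)

universe u

variable {G : Type u} [Group G] [Finite G]

/-- The list for simple groups with quasi-dihedral Sylow 2-subgroups. -/
def SDList (F : Type u) [Group F] : Prop :=
  Cfsg.IsM11 F ∨
    (∃ (K : Type) (_ : Field K) (_ : Fintype K), Fintype.card K % 4 = 3 ∧
      Nonempty (F ≃* Matrix.ProjectiveSpecialLinearGroup (Fin 3) K)) ∨
    (∃ (K : Type) (_ : Field K) (_ : Fintype K) (q : ℕ), Fintype.card K = q ^ 2 ∧ q % 4 = 1 ∧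
      Nonempty (F ≃* Cfsg.PSU 3 K q))

variable {P : Sylow 2 G} {A B : Subgroup G} {n : ℕ} {x y : G}

theorem pair_of_prod (h : Prod P A B) : Pair P A B := ⟨h.comm, h.disj, h.sup⟩

theorem isConj_refl (h2 : ∀ N : Subgroup G, N.Normal → N.index ≠ 2) (h : Prod P A B)
    (sA : SD A n x y) : IsConj y (aa n x) := by
  have hp := pair_of_prod h
  have hM : (Subgroup.zpowers x ⊔ B).relIndex (P : Subgroup G) = 2 :=
    relIndex_sup hp sA.C_le (fun _ hp _ hq => sA.mul_mem_C hp hq) sA.y_mem sA.y_notC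
  obtain ⟨g, -, hgP, hgM⟩ := ProdFus.Split.exists_move h2 P hM sA.oy
    (T := ⊥) IsPGroup.of_bot (fun t ht => by rw [Subgroup.mem_bot.1 ht]; exact Commute.one_left y)
  obtain ⟨u, hu, v, hv, e⟩ := hp.mem_sup sA.C_le hgM
  have hA := h.memA sA.y_mem g hgP
  obtain ⟨eu, -⟩ := hp.uniq hA (sA.C_le hu) (one_mem B) hv ((mul_one _).trans e)
  refine _root_.isConj_iff.2 ⟨g, ((sA.C_sq (eu ▸ hu) ?_).resolve_left fun e1 =>
    Invol.ne_one_of_orderOf_two sA.oy (conj_eq_one_iff.1 e1))⟩
  rw [← conj_mul', sA.y_sq]; group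

theorem isConj_invol (h2 : ∀ N : Subgroup G, N.Normal → N.index ≠ 2) (h : Prod P A B)
    (sA : SD A n x y) {u : G} (hu : u ∈ A) (hu2 : u * u = 1) (hu1 : u ≠ 1) :
    IsConj u (aa n x) := by
  rcases sA.invol hu hu2 with e | e | ⟨k, -, e⟩
  · exact absurd e hu1
  · exact e ▸ IsConj.refl _
  · exact (_root_.isConj_iff.2 ⟨k, e.symm⟩).symm.trans (isConj_refl h2 h sA)

theorem xy_mem_closure (h2 : ∀ N : Subgroup G, N.Normal → N.index ≠ 2) (h : Prod P A B)
    (sA : SD A n x y) {K : Subgroup G} [K.Normal] (hc : cc n x ∈ K) : x * y ∈ K := by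
  have hp := pair_of_prod h
  have hxyA : x * y ∈ A := mul_mem sA.x_mem sA.y_mem
  have hM : (sA.dd ⊔ B).relIndex (P : Subgroup G) = 2 := by
    refine relIndex_sup hp sA.dd_le (fun p hp q hq => ?_) hxyA sA.xy_notDD
    simpa [Subgroup.mem_subgroupOf] using
      Subgroup.mul_mem_iff_of_index_two sA.dd_index (a := ⟨p, hp⟩) (b := ⟨q, hq⟩)
  have hpow : ∀ l : ℕ, 2 ∣ l → ∀ g : G, g * (x * y) ^ l * g⁻¹ ∈ (P : Subgroup G) →
      g * (x * y) ^ l * g⁻¹ ∈ sA.dd ⊔ B := by
    rintro l ⟨k, rfl⟩ g hg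
    refine Subgroup.mem_sup_left (sA.invol_mem_dd (h.memA (pow_mem hxyA _) g hg) ?_)
    rw [← conj_mul', pow_mul, pow_two, sA.xy_sq, ← (Commute.refl (aa n x)).mul_pow, sA.a_sq,
      one_pow]
    group
  obtain ⟨g, -, hgP, hgM⟩ := exists_move_pow h2 P hM (hp.leA hxyA) hpow
    (T := ⊥) IsPGroup.of_bot
    (fun t ht => by rw [Subgroup.mem_bot.1 ht]; exact Commute.one_left _)
  obtain ⟨u, hu, v, hv, e⟩ := hp.mem_sup sA.dd_le hgM
  have hA := h.memA hxyA g hgP
  obtain ⟨eu, -⟩ := hp.uniq hA (sA.dd_le hu) (one_mem B) hv ((mul_one _).trans e)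
  set w := g * (x * y) * g⁻¹ with hw
  have hw2 : w * w = g * aa n x * g⁻¹ := by rw [hw, ← conj_mul', sA.xy_sq]
  have hw1 : w * w ≠ 1 := fun e1 => sA.a_ne (conj_eq_one_iff.1 (hw2.symm.trans e1))
  have hwC := sA.mem_C_of_dd (eu ▸ hu) hw1
  have hwa : w * w = aa n x := (sA.C_sq (mul_mem hwC hwC)
    (by rw [hw2, ← conj_mul', sA.a_sq]; group)).resolve_left hw1
  have hwK : w ∈ K := by
    rcases sA.C_four hwC hwa with e1 | e1 <;> rw [e1]
    exacts [hc, inv_mem hc]
  have := (inferInstance : K.Normal).conj_mem w hwK g⁻¹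
  rwa [hw, show g⁻¹ * (g * (x * y) * g⁻¹) * g⁻¹⁻¹ = x * y by group] at this

/-- The factor lies in the normal closure of its central involution. -/
theorem le_closure_a (h2 : ∀ N : Subgroup G, N.Normal → N.index ≠ 2) (h : Prod P A B)
    (sA : SD A n x y) : A ≤ Subgroup.normalClosure ({aa n x} : Set G) := by
  set K := Subgroup.normalClosure ({aa n x} : Set G) with hK
  haveI : K.Normal := Subgroup.normalClosure_normal
  have hconj : ∀ {u v : G}, IsConj u v → v ∈ K → u ∈ K := by
    intro u v h hv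
    obtain ⟨g, rfl⟩ := _root_.isConj_iff.1 h
    simpa [mul_assoc] using (inferInstance : K.Normal).conj_mem _ hv g⁻¹
  have ha : aa n x ∈ K := Subgroup.subset_normalClosure rfl
  have hy : y ∈ K := hconj (isConj_refl h2 h sA) ha
  have hcy : cc n x * y ∈ K := hconj (isConj_invol h2 h sA (mul_mem sA.c_mem sA.y_mem) sA.cy_sq
    fun h => sA.y_notC (by
      rw [show y = (cc n x)⁻¹ from eq_inv_of_mul_eq_one_right h]; exact inv_mem sA.c_C)) ha
  have hc : cc n x ∈ K := by
    have := mul_mem hcy hy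
    rwa [mul_assoc, sA.y_sq, mul_one] at this
  have hx : x ∈ K := by
    have := mul_mem (xy_mem_closure h2 h sA hc) hy
    rwa [mul_assoc, sA.y_sq, mul_one] at this
  intro z hz
  obtain ⟨i, rfl | rfl⟩ := sA.cases hz
  · exact zpow_mem hx i
  · exact mul_mem (zpow_mem hx i) hy

/-- The central involution is only fused to itself among the elements centralizing `P`. -/
theorem a_fixed (h : Prod P A B) (sA : SD A n x y) {g : G}
    (hgP : g * aa n x * g⁻¹ ∈ (P : Subgroup G))
    (hgc : ∀ p ∈ (P : Subgroup G), Commute p (g * aa n x * g⁻¹)) :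
    g * aa n x * g⁻¹ = aa n x :=
  (sA.center (h.memA sA.a_mem g hgP) fun p hp => hgc p (h.leA hp)).resolve_left
    fun e => sA.a_ne (conj_eq_one_iff.1 e)

theorem closures_commute (hO : Cfsg.oddCore G = ⊥) (h : Prod P A B) :
    ∀ p ∈ Subgroup.normalClosure (A : Set G), ∀ q ∈ Subgroup.normalClosure (B : Set G),
      Commute p q := by
  have h1 := Cfsg.Agent.S2767.result P A B h.clA h.clB (fun p hp q hq => (h.comm p hp q hq).eq)
  have h0 : Subgroup.normalClosure ((⊥ : Subgroup G) : Set G) = ⊥ :=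
    le_bot_iff.1 (Subgroup.normalClosure_le_normal (N := (⊥ : Subgroup G)) (by simp))
  rw [h.disj, h0, show Cfsg.pPrimeCore 2 G = ⊥ from hO, sup_bot_eq] at h1
  intro p hp q hq
  exact commutatorElement_eq_one_iff_commute.1
    (Subgroup.mem_bot.1 (h1 (Subgroup.commutator_mem_commutator hp hq)))

/-- The normal closure of a quasi-dihedral strongly closed factor meeting `P` in that factor is
one of the listed simple groups. -/
theorem factor_of_inf (hSD : Invol.AbgConsumers.SDStmt.{u})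
    (h2 : ∀ N : Subgroup G, N.Normal → N.index ≠ 2) (hO : Cfsg.oddCore G = ⊥) (h : Prod P A B)
    (sA : SD A n x y) (hinf : (P : Subgroup G) ⊓ Subgroup.normalClosure (A : Set G) = A) :
    SDList ↥(Subgroup.normalClosure (A : Set G)) := by
  haveI : Fact (Nat.Prime 2) := ⟨Nat.prime_two⟩
  set N := Subgroup.normalClosure (A : Set G) with hN
  haveI : N.Normal := Subgroup.normalClosure_normal
  have hAN : A ≤ N := Subgroup.le_normalClosure
  have hodd : ¬ 2 ∣ (A.subgroupOf N).index := by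
    have := Grp.sylow_inf_normal_relIndex P N
    rwa [← Subgroup.inf_relIndex_right, hinf] at this
  have hAp : IsPGroup 2 (A.subgroupOf N) :=
    (P.isPGroup'.to_le h.leA).comap_of_injective N.subtype Subtype.val_injective
  let S : Sylow 2 N := hAp.toSylow hodd
  have hS : (S : Subgroup N) = A.subgroupOf N := rfl
  have hO₁ : Cfsg.pPrimeCore 2 N = ⊥ := by
    have hn := Grp.normal_of_characteristic_map (Cfsg.pPrimeCore 2 N)
    have h1 : (Cfsg.pPrimeCore 2 N).map N.subtype ≤ Cfsg.pPrimeCore 2 G := by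
      refine Grp.le_pPrimeCore hn ?_
      rw [Subgroup.card_map_of_injective Subtype.val_injective]
      exact Grp.pPrimeCore_coprime
    rw [show Cfsg.pPrimeCore 2 G = ⊥ from hO] at h1
    exact (Subgroup.map_eq_bot_iff_of_injective _ Subtype.val_injective).1 (le_bot_iff.1 h1)
  -- every conjugate of `a` is conjugate to it inside `N`
  have hfrat : ∀ g : G, ∃ q : N, (q : G) * (g * aa n x * g⁻¹) * (q : G)⁻¹ = aa n x ∧
      ∀ p ∈ A, (q : G) * g * p * ((q : G) * g)⁻¹ ∈ A := by
    intro g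
    have hle : A.map (MulAut.conj g).toMonoidHom ≤ N := by
      rintro _ ⟨p, hp, rfl⟩
      exact (inferInstance : N.Normal).conj_mem p (hAN hp) g
    obtain ⟨q, hq⟩ := Invol.exists_conj_subset_sylow
      (((P.isPGroup'.to_le h.leA).map (MulAut.conj g).toMonoidHom).comap_of_injective
        N.subtype Subtype.val_injective) S
    have hA : ∀ p ∈ A, (q : G) * g * p * ((q : G) * g)⁻¹ ∈ A := by
      intro p hp
      have h1 := hq ⟨g * p * g⁻¹, hle ⟨p, hp, rfl⟩⟩ (Subgroup.mem_subgroupOf.2 ⟨p, hp, rfl⟩)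
      change _ ∈ (S : Subgroup N) at h1
      rw [hS, Subgroup.mem_subgroupOf] at h1
      simpa [mul_assoc] using h1
    refine ⟨q, ?_, hA⟩
    have hkN : (q : G) * g ∈ Subgroup.normalizer (A : Set G) := BS.mem_normalizer_of_conj_le hA
    rw [show (q : G) * (g * aa n x * g⁻¹) * (q : G)⁻¹ =
      (q : G) * g * aa n x * ((q : G) * g)⁻¹ by group]
    refine (sA.center (hA _ sA.a_mem) fun p hp => ?_).resolve_left
      fun h => sA.a_ne (conj_eq_one_iff.1 h)
    have hp' : ((q : G) * g)⁻¹ * p * ((q : G) * g) ∈ A := by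
      simpa using (Subgroup.mem_normalizer_iff.1 (inv_mem hkN) p).1 hp
    have h2 := commute_conj ((q : G) * g) (sA.a_central hp')
    rwa [show (q : G) * g * (((q : G) * g)⁻¹ * p * ((q : G) * g)) * ((q : G) * g)⁻¹ = p by group] at h2
  haveI : Nontrivial N :=
    ⟨⟨⟨aa n x, hAN sA.a_mem⟩, 1, fun h => sA.a_ne (congrArg Subtype.val h)⟩⟩
  haveI : IsSimpleGroup N := by
    refine ⟨fun M hM => ?_⟩
    by_cases hb : M = ⊥
    · exact .inl hb
    refine .inr ?_
    have heven : Even (Nat.card M) := by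
      by_contra ho
      refine hb (le_bot_iff.1 (hO₁ ▸ ?_))
      exact Grp.le_pPrimeCore hM (Nat.coprime_two_right.2 (Nat.not_even_iff_odd.1 ho))
    obtain ⟨t, htM, ht2⟩ := Invol.exists_orderOf_two_mem heven
    obtain ⟨r, hr⟩ := Invol.exists_conj_mem_sylow (n := 1) (by rw [ht2, pow_one]) S
    change _ ∈ (S : Subgroup N) at hr
    rw [hS, Subgroup.mem_subgroupOf] at hr
    have hrM : r * t * r⁻¹ ∈ M := hM.conj_mem t htM r
    have hr2 : ((r * t * r⁻¹ : N) : G) * ((r * t * r⁻¹ : N) : G) = 1 := by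
      rw [← Subgroup.coe_mul, ← conj_mul', mul_self_two ht2]; simp
    have hr1 : ((r * t * r⁻¹ : N) : G) ≠ 1 := fun h => Invol.ne_one_of_orderOf_two ht2
      (conj_eq_one_iff.1 (Subtype.ext h : r * t * r⁻¹ = 1))
    obtain ⟨g, hg⟩ := _root_.isConj_iff.1 ((isConj_invol h2 h sA) hr hr2 hr1)
    obtain ⟨q, hq, hqA⟩ := hfrat g
    -- `k = q g` fixes `a`, so `a` is conjugate to the chosen element inside `N`
    have hka : (q : G) * g * aa n x * ((q : G) * g)⁻¹ = aa n x := Eq.trans (by group) hq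
    set k := (q : G) * g with hk
    have hqN : k⁻¹ * (q : G) * k ∈ N := by
      simpa using (inferInstance : N.Normal).conj_mem _ q.2 k⁻¹
    have haM : (⟨aa n x, hAN sA.a_mem⟩ : N) ∈ M := by
      have e : (⟨aa n x, hAN sA.a_mem⟩ : N) =
          ⟨k⁻¹ * (q : G) * k, hqN⟩⁻¹ * (r * t * r⁻¹) * ⟨k⁻¹ * (q : G) * k, hqN⟩ := by
        refine Subtype.ext ?_
        have h3 : ((r * t * r⁻¹ : N) : G) = k⁻¹ * (q : G) * aa n x * (q : G)⁻¹ * k := by
          rw [hk, ← hg]; group
        push_cast at h3 ⊢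
        rw [h3]
        conv_lhs => rw [← mul_one (aa n x)]
        calc aa n x * 1 = k⁻¹ * (k * aa n x * k⁻¹) * k := by group
          _ = k⁻¹ * aa n x * k := by rw [hka]
          _ = _ := by group
      rw [e]
      simpa [mul_assoc] using hM.conj_mem _ hrM (⟨k⁻¹ * (q : G) * k, hqN⟩⁻¹ : N)
    have hle : Subgroup.normalClosure ({aa n x} : Set G) ≤ M.map N.subtype := by
      refine (Subgroup.closure_le _).2 fun z hz => ?_
      obtain ⟨w, hw, hwz⟩ := Group.mem_conjugatesOfSet_iff.1 hz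
      rw [Set.mem_singleton_iff] at hw
      subst hw
      obtain ⟨g, rfl⟩ := _root_.isConj_iff.1 hwz
      obtain ⟨q, hq, -⟩ := hfrat g
      refine ⟨q⁻¹ * ⟨aa n x, hAN sA.a_mem⟩ * q,
        by simpa using hM.conj_mem _ haM q⁻¹, ?_⟩
      simp only [Subgroup.coe_subtype, Subgroup.coe_mul, Subgroup.coe_inv]
      conv_lhs => rw [← hq]
      group
    haveI : (Subgroup.normalClosure ({aa n x} : Set G)).Normal := Subgroup.normalClosure_normal
    have hNM : N ≤ M.map N.subtype :=
      le_trans (Subgroup.normalClosure_le_normal (le_closure_a h2 h sA)) hle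
    refine eq_top_iff.2 fun w _ => ?_
    obtain ⟨w', hw', e⟩ := hNM w.2
    rwa [show w' = w from Subtype.ext e] at hw'
  have hq : Cfsg.IsQuasiDihedral ↥(S : Subgroup N) := by
    refine ⟨n, sA.hn, ?_, ⟨⟨x, hAN sA.x_mem⟩, sA.x_mem⟩, ⟨⟨y, hAN sA.y_mem⟩, sA.y_mem⟩,
      ?_, ?_, ?_⟩
    · rw [hS, Nat.card_congr (Subgroup.subgroupOfEquivOfLe hAN).toEquiv, sA.card]
    · rw [← Subgroup.orderOf_coe, ← Subgroup.orderOf_coe]; exact sA.ox
    · rw [← Subgroup.orderOf_coe, ← Subgroup.orderOf_coe]; exact sA.oy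
    · exact Subtype.ext (Subtype.ext (by simpa using sA.conj))
  rcases hSD N S hq with h | h | h
  · exact Or.inr (Or.inl h)
  · exact Or.inr (Or.inr h)
  · exact Or.inl h


/-- An element of order two centralizing a Sylow 2-subgroup lies in it. -/
theorem mem_sylow_of_commute (P : Sylow 2 G) {w : G} (hw : orderOf w = 2)
    (hc : ∀ p ∈ (P : Subgroup G), Commute p w) : w ∈ (P : Subgroup G) := by
  haveI : Fact (Nat.Prime 2) := ⟨Nat.prime_two⟩
  have hp : IsPGroup 2 (Subgroup.zpowers w) :=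
    IsPGroup.of_card (n := 1) (by rw [Nat.card_zpowers, hw, pow_one])
  have hwN : w ∈ Subgroup.normalizer (P : Set G) :=
    BS.mem_normalizer_of_conj_le fun p hp' => by
      rwa [← (hc p hp').eq, mul_inv_cancel_right]
  have h := hp.inf_normalizer_sylow P
  rw [inf_eq_left.2 (Subgroup.zpowers_le.2 hwN)] at h
  exact (h.le (Subgroup.mem_zpowers w)).2

/-- The two normal closures meet `P` inside the other factor. -/
theorem inf_closures_le (hO : Cfsg.oddCore G = ⊥) (hZ : Subgroup.center G = ⊥) (h : Prod P A B)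
    (sA : SD A n x y) :
    (P : Subgroup G) ⊓ (Subgroup.normalClosure (A : Set G) ⊓ Subgroup.normalClosure (B : Set G))
      ≤ B := by
  intro z hz
  obtain ⟨hzP, hz12⟩ := Subgroup.mem_inf.1 hz
  obtain ⟨hz1, hz2⟩ := Subgroup.mem_inf.1 hz12
  obtain ⟨u, hu, v, hv, rfl⟩ := (pair_of_prod h).split hzP
  have hv1 : v ∈ Subgroup.normalClosure (A : Set G) := by
    have h0 : u ∈ Subgroup.normalClosure (A : Set G) := Subgroup.le_normalClosure hu
    have := mul_mem (inv_mem h0) hz1
    rwa [inv_mul_cancel_left] at this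
  have hu2 : u ∈ Subgroup.normalClosure (B : Set G) := by
    have h0 : v ∈ Subgroup.normalClosure (B : Set G) := Subgroup.le_normalClosure hv
    have := mul_mem hz2 (inv_mem h0)
    rwa [mul_inv_cancel_right] at this
  have hcomm := closures_commute hO h
  have hcP : ∀ w, w ∈ Subgroup.normalClosure (A : Set G) → w ∈ Subgroup.normalClosure (B : Set G) →
      ∀ p ∈ (P : Subgroup G), Commute p w := by
    intro w hw1 hw2 p hp
    obtain ⟨a', ha', b', hb', rfl⟩ := (pair_of_prod h).split hp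
    exact (hcomm a' (Subgroup.le_normalClosure ha') w hw2).mul_left
      (hcomm w hw1 b' (Subgroup.le_normalClosure hb')).symm
  rcases sA.center hu (fun p hp => hcP u (Subgroup.le_normalClosure hu) hu2 p (h.leA hp)) with
    e | e
  · rw [e, one_mul]; exact hv
  exfalso
  have hac : aa n x ∈ Subgroup.center G := by
    rw [Subgroup.mem_center_iff]
    intro g
    subst e
    have hw1 := (Subgroup.normalClosure_normal (s := (A : Set G))).conj_mem _
      (Subgroup.le_normalClosure hu) g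
    have hw2 := (Subgroup.normalClosure_normal (s := (B : Set G))).conj_mem _ hu2 g
    have hc := hcP _ hw1 hw2
    have hP := mem_sylow_of_commute P ((orderOf_conj g _).trans sA.a_ord) hc
    exact mul_inv_eq_iff_eq_mul.1 (a_fixed h sA hP hc)
  rw [hZ, Subgroup.mem_bot] at hac
  exact sA.a_ne hac

end Cfsg.Agent.Fus.SDProduct
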