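import Cfsg.Agent.Lib.Fus.SDProduct.Shape
import Cfsg.Agent.Lib.Transfer.Product.Split.Closed
import Cfsg.Agent.Lib.Transfer.Product.Split.Central

/-!
# The central involutions and the first transfer
-/

set_option linter.unusedSectionVars false
set_option linter.style.haveILetI false

namespace Cfsg.Agent.Fus.SDProduct

open Cfsg.Agent.ProdFus.Split (Pair conj_mul' commute_conj orderOf_two mul_self_two)
open scoped commutatorElement

universe u

variable {G : Type u} [Group G] [Finite G]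

theorem conj_commutator (g p q : G) :
    g * ⁅p, q⁆ * g⁻¹ = ⁅g * p * g⁻¹, g * q * g⁻¹⁆ := by
  rw [commutatorElement_def, commutatorElement_def]; group

theorem commutator_parts {P : Sylow 2 G} {A B : Subgroup G} (hp : Pair P A B) {u u' v v' : G}
    (hu : u ∈ A) (hu' : u' ∈ A) (hv : v ∈ B) (hv' : v' ∈ B) :
    ⁅u * v, u' * v'⁆ = ⁅u, u'⁆ * ⁅v, v'⁆ := by
  rw [commutatorElement_def, commutatorElement_def, commutatorElement_def]
  have e1 : ∀ {p q : G}, p ∈ A → q ∈ B → (p * q)⁻¹ = p⁻¹ * q⁻¹ := fun hp' hq => by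
    rw [mul_inv_rev, (hp.comm _ (inv_mem hp') _ (inv_mem hq)).eq]
  rw [e1 hu hv, e1 hu' hv', hp.mul_mul hv hu', hp.mul_mul (mul_mem hv hv') (inv_mem hu),
    hp.mul_mul (mul_mem (mul_mem hv hv') (inv_mem hv)) (inv_mem hu')]

theorem relIndex_sup {P : Sylow 2 G} {A B K : Subgroup G} (hp : Pair P A B) (hKA : K ≤ A)
    (hK : ∀ p ∈ A, ∀ q ∈ A, (p * q ∈ K ↔ (p ∈ K ↔ q ∈ K))) {s : G} (hs : s ∈ A) (hsK : s ∉ K) :
    (K ⊔ B).relIndex (P : Subgroup G) = 2 := by
  have hmem : ∀ {u v : G}, u ∈ A → v ∈ B → (u * v ∈ K ⊔ B ↔ u ∈ K) := by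
    intro u v hu hv
    refine ⟨fun hx => ?_, fun hx => Subgroup.mul_mem_sup hx hv⟩
    obtain ⟨c, hc, b, hb, e⟩ := hp.mem_sup hKA hx
    exact (hp.uniq hu (hKA hc) hv hb e).1 ▸ hc
  rw [Subgroup.relIndex, Subgroup.index_eq_two_iff]
  refine ⟨⟨s, hp.leA hs⟩, fun w => ?_⟩
  obtain ⟨u, hu, v, hv, e⟩ := hp.split w.2
  simp only [Subgroup.mem_subgroupOf, Subgroup.coe_mul]
  rw [e, show u * v * s = u * s * v by
    rw [mul_assoc, ← (hp.comm s hs v hv).eq, ← mul_assoc],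
    hmem (mul_mem hu hs) hv, hmem hu hv, hK u hu s hs]
  by_cases huK : u ∈ K
  · exact .inr ⟨huK, fun h => hsK (h.1 huK)⟩
  · exact .inl ⟨⟨fun h => absurd h huK, fun h => absurd h hsK⟩, huK⟩

/-- The situation: a Sylow 2-subgroup which is a product of two quasi-dihedral groups. -/
structure Data (P : Sylow 2 G) (A B : Subgroup G) (n m : ℕ) (x y x' y' : G) : Prop where
  h2 : ∀ N : Subgroup G, N.Normal → N.index ≠ 2
  pair : Pair P A B
  sA : SD A n x y
  sB : SD B m x' y'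

variable {P : Sylow 2 G} {A B : Subgroup G} {n m : ℕ} {x y x' y' : G}

namespace Data

variable (d : Data P A B n m x y x' y')
include d

theorem swap : Data P B A m n x' y' x y := ⟨d.h2, d.pair.swap, d.sB, d.sA⟩

theorem a_P {p : G} (hp : p ∈ (P : Subgroup G)) : Commute p (aa n x) := by
  obtain ⟨u, hu, v, hv, rfl⟩ := d.pair.split hp
  exact (d.sA.a_central hu).mul_left (d.pair.comm _ d.sA.a_mem v hv).symm

theorem b_P {p : G} (hp : p ∈ (P : Subgroup G)) : Commute p (aa m x') := d.swap.a_P hp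

theorem a_ne_b : aa n x ≠ aa m x' := fun e =>
  d.sA.a_ne (d.pair.eq_one_of_mem d.sA.a_mem (e ▸ d.sB.a_mem))

theorem ab_ne_one : aa n x * aa m x' ≠ 1 := fun e =>
  d.sA.a_ne ((d.pair.eq_one_iff d.sA.a_mem d.sB.a_mem).1 e).1

theorem ab_ne_a : aa n x * aa m x' ≠ aa n x := fun e =>
  d.sB.a_ne (mul_left_cancel (e.trans (mul_one _).symm))

theorem ab_ne_b : aa n x * aa m x' ≠ aa m x' := fun e =>
  d.sA.a_ne (mul_right_cancel (e.trans (one_mul _).symm))

theorem ab_comm : aa n x * aa m x' = aa m x' * aa n x :=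
  (d.pair.comm _ d.sA.a_mem _ d.sB.a_mem).eq

theorem center_P {z : G} (hz : z ∈ (P : Subgroup G)) (hc : ∀ p ∈ (P : Subgroup G), Commute p z) :
    z = 1 ∨ z = aa n x ∨ z = aa m x' ∨ z = aa n x * aa m x' := by
  obtain ⟨u, hu, v, hv, rfl⟩ := d.pair.split hz
  have hu' := d.sA.center hu fun p hp => by
    have h1 := hc (p * 1) (d.pair.mul_mem' hp (one_mem B))
    exact ((d.pair.commute_iff hp (one_mem B) hu hv).1 h1).1
  have hv' := d.sB.center hv fun p hp => by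
    have h1 := hc (1 * p) (d.pair.mul_mem' (one_mem A) hp)
    exact ((d.pair.commute_iff (one_mem A) hp hu hv).1 h1).2
  rcases hu' with rfl | rfl <;> rcases hv' with rfl | rfl <;> simp

/-- A square root with centralizer of index two. -/
def Root (_ : Data P A B n m x y x' y') (z : G) : Prop :=
  ∃ w ∈ (P : Subgroup G), w * w = z ∧ ∀ p ∈ (P : Subgroup G), ∀ q ∈ (P : Subgroup G),
    ¬ Commute p w → ¬ Commute q w → Commute (p * q) w

theorem root_a : d.Root (aa n x) := by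
  have key : ∀ {u v : G}, u ∈ A → v ∈ B →
      (Commute (u * v) (cc n x) ↔ u ∈ Subgroup.zpowers x) := by
    intro u v hu hv
    rw [← mul_one (cc n x), d.pair.commute_iff hu hv d.sA.c_mem (one_mem B)]
    refine ⟨fun h => by_contra fun hn => d.sA.a_ne ?_,
      fun h => ⟨d.sA.C_comm h d.sA.c_C, Commute.one_right v⟩⟩
    rw [← d.sA.c_sq]
    exact d.sA.comm_sq hu hn d.sA.c_C h.1
  refine ⟨_, d.pair.leA d.sA.c_mem, d.sA.c_sq, fun p hp q hq hpc hqc => ?_⟩
  obtain ⟨u, hu, v, hv, rfl⟩ := d.pair.split hp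
  obtain ⟨u', hu', v', hv', rfl⟩ := d.pair.split hq
  rw [key hu hv] at hpc
  rw [key hu' hv'] at hqc
  rw [d.pair.mul_mul hv hu', key (mul_mem hu hu') (mul_mem hv hv'), d.sA.mul_mem_C hu hu']
  exact iff_of_false hpc hqc

theorem root_b : d.Root (aa m x') := d.swap.root_a

theorem not_root_ab : ¬ d.Root (aa n x * aa m x') := by
  rintro ⟨w, hw, e, hw'⟩
  obtain ⟨u, hu, v, hv, rfl⟩ := d.pair.split hw
  rw [d.pair.sq hu hv] at e
  obtain ⟨eu, ev⟩ := d.pair.uniq (mul_mem hu hu) d.sA.a_mem (mul_mem hv hv) d.sB.a_mem e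
  obtain ⟨p, hp, hpu⟩ : ∃ p ∈ A, ¬ Commute p u := by
    by_contra hc
    push Not at hc
    rcases d.sA.center hu hc with h | h <;> rw [h] at eu
    · exact d.sA.a_ne (by rw [← eu, one_mul])
    · exact d.sA.a_ne (eu.symm.trans d.sA.a_sq)
  obtain ⟨q, hq, hqv⟩ : ∃ q ∈ B, ¬ Commute q v := by
    by_contra hc
    push Not at hc
    rcases d.sB.center hv hc with h | h <;> rw [h] at ev
    · exact d.sB.a_ne (by rw [← ev, one_mul])
    · exact d.sB.a_ne (ev.symm.trans d.sB.a_sq)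
  have h1 := hw' (p * 1) (d.pair.mul_mem' hp (one_mem B)) (1 * q) (d.pair.mul_mem' (one_mem A) hq)
    (fun h => hpu ((d.pair.commute_iff hp (one_mem B) hu hv).1 h).1)
    (fun h => hqv ((d.pair.commute_iff (one_mem A) hq hu hv).1 h).2)
  rw [d.pair.mul_mul (one_mem B) (one_mem A), mul_one, one_mul] at h1
  exact hpu ((d.pair.commute_iff hp hq hu hv).1 h1).1

theorem normalizer_fix {g : G} (hg : g ∈ Subgroup.normalizer ((P : Subgroup G) : Set G)) :
    g * aa n x * g⁻¹ = aa n x ∧ g * aa m x' * g⁻¹ = aa m x' := by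
  have hconj : ∀ {w : G}, w ∈ (P : Subgroup G) → g * w * g⁻¹ ∈ (P : Subgroup G) := fun hw =>
    (Subgroup.mem_normalizer_iff.1 hg _).1 hw
  have hback : ∀ {w : G}, w ∈ (P : Subgroup G) → g⁻¹ * w * g ∈ (P : Subgroup G) := fun hw => by
    simpa using (Subgroup.mem_normalizer_iff.1 (inv_mem hg) _).1 hw
  have himg : ∀ z ∈ (P : Subgroup G), (∀ p ∈ (P : Subgroup G), Commute p z) → z ≠ 1 → d.Root z →
      g * z * g⁻¹ = aa n x ∨ g * z * g⁻¹ = aa m x' := by
    intro z hz hzc hz1 hr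
    have hr' : d.Root (g * z * g⁻¹) := by
      obtain ⟨w, hw, e, hw'⟩ := hr
      refine ⟨g * w * g⁻¹, hconj hw, by rw [← e]; group, fun p hp q hq hpw hqw => ?_⟩
      have hc : ∀ {p : G}, Commute (g⁻¹ * p * g) w → Commute p (g * w * g⁻¹) := fun h => by
        simpa [mul_assoc] using commute_conj g h
      refine hc ?_
      have := hw' _ (hback hp) _ (hback hq) (fun h => hpw (hc h)) (fun h => hqw (hc h))
      simpa [mul_assoc] using this
    have hcc : ∀ p ∈ (P : Subgroup G), Commute p (g * z * g⁻¹) := fun p hp => by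
      simpa [mul_assoc] using commute_conj g (hzc _ (hback hp))
    rcases d.center_P (hconj hz) hcc with e | e | e | e
    · exact absurd (conj_eq_one_iff.1 e) hz1
    · exact .inl e
    · exact .inr e
    · exact absurd (e ▸ hr') d.not_root_ab
  have ha := himg _ (d.pair.leA d.sA.a_mem) (fun p hp => d.a_P hp) d.sA.a_ne d.root_a
  have hb := himg _ (d.pair.leB d.sB.a_mem) (fun p hp => d.b_P hp) d.sB.a_ne d.root_b
  have hinj : g * aa n x * g⁻¹ ≠ g * aa m x' * g⁻¹ := fun e =>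
    d.a_ne_b (mul_left_cancel (mul_right_cancel e))
  rcases ha with ha | ha <;> rcases hb with hb | hb
  · exact absurd (ha.trans hb.symm) hinj
  · exact ⟨ha, hb⟩
  · exact absurd (ProdFus.Split.eq_of_swap hg (fun p hp => d.a_P hp) ha hb) d.a_ne_b
  · exact absurd (ha.trans hb.symm) hinj

/-- Fusion of central elements is trivial. -/
theorem central_conj_eq {z g : G} (hz : z ∈ (P : Subgroup G))
    (hzc : ∀ p ∈ (P : Subgroup G), Commute p z)
    (hgc : ∀ p ∈ (P : Subgroup G), Commute p (g * z * g⁻¹)) : g * z * g⁻¹ = z := by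
  haveI : Fact (Nat.Prime 2) := ⟨Nat.prime_two⟩
  obtain ⟨k, hk, e⟩ := Transfer.exists_normalizer_conj_elem P hzc hgc
  obtain ⟨ha, hb⟩ := d.normalizer_fix hk
  rw [← e]
  rcases d.center_P hz hzc with rfl | rfl | rfl | rfl
  · group
  · exact ha
  · exact hb
  · rw [conj_mul', ha, hb]

theorem not_conj_ab {g : G} : g * aa n x * g⁻¹ ≠ aa m x' ∧
    g * aa n x * g⁻¹ ≠ aa n x * aa m x' := by
  have key : ∀ z, (∀ p ∈ (P : Subgroup G), Commute p z) → g * aa n x * g⁻¹ = z → z = aa n x := by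
    intro z hz e
    rw [← e]
    exact d.central_conj_eq (d.pair.leA d.sA.a_mem) (fun p hp => d.a_P hp) (e ▸ hz)
  exact ⟨fun e => d.a_ne_b (key _ (fun p hp => d.b_P hp) e).symm, fun e => d.ab_ne_a
    (key _ (fun p hp => (d.a_P hp).mul_right (d.b_P hp)) e)⟩

theorem b_comm_zpow : ∃ k : ℤ, ⁅y', x'⁆ ^ k = aa m x' := d.sB.a_comm

/-- An element carrying the generators of `B` into `P` fixes the central involution of `B`. -/
theorem fix_b {g : G} (hx : g * x' * g⁻¹ ∈ (P : Subgroup G))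
    (hy : g * y' * g⁻¹ ∈ (P : Subgroup G)) : g * aa m x' * g⁻¹ = aa m x' := by
  obtain ⟨k, hk⟩ := d.b_comm_zpow
  obtain ⟨u, hu, v, hv, ex⟩ := d.pair.split hx
  obtain ⟨u', hu', v', hv', ey⟩ := d.pair.split hy
  have hU := d.sA.comm_C hu' hu
  have hV := d.sB.comm_C hv' hv
  have e : g * aa m x' * g⁻¹ = ⁅u', u⁆ ^ k * ⁅v', v⁆ ^ k := by
    rw [← hk, ← conj_zpow, conj_commutator, ex, ey, commutator_parts d.pair hu' hu hv' hv,
      (d.pair.comm _ (d.sA.C_le hU) _ (d.sB.C_le hV)).mul_zpow]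
  have hUk := zpow_mem hU k
  have hVk := zpow_mem hV k
  refine d.central_conj_eq (d.pair.leB d.sB.a_mem) (fun p hp => d.b_P hp) ?_
  rw [e]
  have h2 : ⁅u', u⁆ ^ k * ⁅v', v⁆ ^ k * (⁅u', u⁆ ^ k * ⁅v', v⁆ ^ k) = 1 := by
    rw [← e, ← conj_mul', d.sB.a_sq]; group
  rw [d.pair.sq (d.sA.C_le hUk) (d.sB.C_le hVk)] at h2
  obtain ⟨hu2, hv2⟩ := (d.pair.eq_one_iff (mul_mem (d.sA.C_le hUk) (d.sA.C_le hUk))
    (mul_mem (d.sB.C_le hVk) (d.sB.C_le hVk))).1 h2
  intro p hp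
  refine Commute.mul_right ?_ ?_
  · rcases d.sA.C_sq hUk hu2 with e | e <;> rw [e]
    exacts [Commute.one_right p, d.a_P hp]
  · rcases d.sB.C_sq hVk hv2 with e | e <;> rw [e]
    exacts [Commute.one_right p, d.b_P hp]

/-- If the image of `B` centralizes `u v`, then `v` is central. -/
theorem part_central {g u v : G} (hu : u ∈ A) (hv : v ∈ B) (hx : g * x' * g⁻¹ ∈ (P : Subgroup G))
    (hy : g * y' * g⁻¹ ∈ (P : Subgroup G)) (hxc : Commute (g * x' * g⁻¹) (u * v))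
    (hyc : Commute (g * y' * g⁻¹) (u * v)) : v = 1 ∨ v = aa m x' := by
  by_contra hne
  push Not at hne
  obtain ⟨k, hk⟩ := d.b_comm_zpow
  obtain ⟨u₁, hu₁, v₁, hv₁, ex⟩ := d.pair.split hx
  obtain ⟨u₂, hu₂, v₂, hv₂, ey⟩ := d.pair.split hy
  rw [ex] at hxc
  rw [ey] at hyc
  have hvv : Commute v₂ v₁ := d.sB.cent_comm hv hne.1 hne.2 hv₂ hv₁
    ((d.pair.commute_iff hu₂ hv₂ hu hv).1 hyc).2 ((d.pair.commute_iff hu₁ hv₁ hu hv).1 hxc).2
  have e : aa m x' = ⁅u₂, u₁⁆ ^ k := by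
    rw [← d.fix_b hx hy, ← hk, ← conj_zpow, conj_commutator, ex, ey,
      commutator_parts d.pair hu₂ hu₁ hv₂ hv₁, commutatorElement_eq_one_iff_commute.2 hvv, mul_one]
  exact d.sB.a_ne (d.pair.eq_one_of_mem
    (e ▸ zpow_mem (d.sA.C_le (d.sA.comm_C hu₂ hu₁)) k) d.sB.a_mem)

theorem relIndex_C : (Subgroup.zpowers x ⊔ B).relIndex (P : Subgroup G) = 2 :=
  relIndex_sup d.pair d.sA.C_le (fun _ hp _ hq => d.sA.mul_mem_C hp hq) d.sA.y_mem d.sA.y_notC

theorem relIndex_dd : (d.sA.dd ⊔ B).relIndex (P : Subgroup G) = 2 := by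
  refine relIndex_sup d.pair d.sA.dd_le (fun p hp q hq => ?_)
    (mul_mem d.sA.x_mem d.sA.y_mem) d.sA.xy_notDD
  simpa [Subgroup.mem_subgroupOf] using
    Subgroup.mul_mem_iff_of_index_two d.sA.dd_index (a := ⟨p, hp⟩) (b := ⟨q, hq⟩)

/-- The reflection moves onto a central involution, the other factor staying in `P`. -/
theorem move_refl : ∃ g : G, (g * y * g⁻¹ = aa n x ∨ g * y * g⁻¹ = aa n x * aa m x') ∧
    g * aa m x' * g⁻¹ = aa m x' ∧
      ∀ p ∈ (P : Subgroup G), Commute p y → g * p * g⁻¹ ∈ (P : Subgroup G) := by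
  set T := (P : Subgroup G) ⊓ Subgroup.centralizer ({y} : Set G) with hT
  have hTy : ∀ t ∈ T, Commute t y := fun t ht =>
    Subgroup.mem_centralizer_singleton_iff.1 ht.2
  have hBT : ∀ v ∈ B, v ∈ T := fun v hv => ⟨d.pair.leB hv,
    Subgroup.mem_centralizer_singleton_iff.2 (d.pair.comm y d.sA.y_mem v hv).symm.eq⟩
  obtain ⟨g, hgT, hgP, hgM⟩ := ProdFus.Split.exists_move d.h2 P d.relIndex_C d.sA.oy
    (P.isPGroup'.to_le inf_le_left) hTy
  obtain ⟨u, hu, v, hv, e⟩ := d.pair.mem_sup d.sA.C_le hgM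
  have hB : ∀ v ∈ B, g * v * g⁻¹ ∈ (P : Subgroup G) := fun v hv => hgT v (hBT v hv)
  have hb := d.fix_b (hB _ d.sB.x_mem) (hB _ d.sB.y_mem)
  have hv' := d.part_central (d.sA.C_le hu) hv (hB _ d.sB.x_mem) (hB _ d.sB.y_mem)
    (e ▸ commute_conj g (d.pair.comm y d.sA.y_mem x' d.sB.x_mem).symm)
    (e ▸ commute_conj g (d.pair.comm y d.sA.y_mem y' d.sB.y_mem).symm)
  have hsq : u * v * (u * v) = 1 := by rw [← e, ← conj_mul', d.sA.y_sq]; group
  rw [d.pair.sq (d.sA.C_le hu) hv] at hsq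
  have hu' := d.sA.C_sq hu ((d.pair.eq_one_iff (mul_mem (d.sA.C_le hu) (d.sA.C_le hu))
    (mul_mem hv hv)).1 hsq).1
  have hy1 : g * y * g⁻¹ ≠ 1 := fun h =>
    Invol.ne_one_of_orderOf_two d.sA.oy (conj_eq_one_iff.1 h)
  have hyb : g * y * g⁻¹ ≠ aa m x' := fun h => d.sB.a_ne
    (d.pair.eq_one_of_mem ((mul_left_cancel (mul_right_cancel (h.trans hb.symm))) ▸ d.sA.y_mem)
      d.sB.a_mem)
  refine ⟨g, ?_, hb, fun p hp hpy =>
    hgT p ⟨hp, Subgroup.mem_centralizer_singleton_iff.2 hpy.eq⟩⟩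
  rcases hu' with rfl | rfl <;> rcases hv' with rfl | rfl
  · exact absurd (e.trans (one_mul 1)) hy1
  · exact absurd (e.trans (one_mul _)) hyb
  · exact .inl (e.trans (mul_one _))
  · exact .inr e

end Data

end Cfsg.Agent.Fus.SDProduct
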