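import Cfsg.Agent.Lib.Fus.SDProduct.Central

/-!
# An element of the cyclic part is not fused to its product with the other central involution
-/

set_option linter.unusedSectionVars false
set_option linter.style.haveILetI false

namespace Cfsg.Agent.Fus.SDProduct

open Cfsg.Agent.ProdFus.Split (Pair conj_mul' commute_conj orderOf_conj)

universe u

variable {G : Type u} [Group G] [Finite G]

theorem zpow_odd {β : G} (h : β * β = 1) {q : ℤ} (hq : Odd q) : β ^ q = β := by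
  obtain ⟨k, rfl⟩ := hq
  rw [zpow_add, zpow_one, zpow_mul, zpow_two, h, one_zpow, one_mul]

namespace Data

variable {P : Sylow 2 G} {A B : Subgroup G} {n m : ℕ} {x y x' y' : G}
variable (d : Data P A B n m x y x' y')
include d

theorem Q_le : Subgroup.zpowers x ⊔ B ≤ (P : Subgroup G) :=
  sup_le (d.sA.C_le.trans d.pair.leA) d.pair.leB

theorem odd_exp {j : ℤ} {β : G} (hβc : Commute x β) (hβ : β * β = 1)
    (ho : orderOf (x ^ j * β) = 2 ^ n) : Odd j := by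
  rw [← Int.not_even_iff_odd]
  rintro ⟨k, rfl⟩
  have hn : n = (n - 1) + 1 := by have := d.sA.hn; omega
  have h1 : (x ^ (k + k) * β) ^ (2 ^ (n - 1)) = 1 := by
    have e1 : (x ^ (k + k)) ^ (2 ^ (n - 1)) = 1 := by
      rw [← zpow_natCast, ← zpow_mul,
        show (k + k) * ((2 ^ (n - 1) : ℕ) : ℤ) = (orderOf x : ℤ) * k by
          rw [d.sA.ox]; conv_rhs => rw [hn]
          push_cast; ring,
        zpow_mul, zpow_natCast, pow_orderOf_eq_one, one_zpow]
    have e2 : β ^ (2 ^ (n - 1)) = 1 := by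
      rw [show n - 1 = (n - 2) + 1 by have := d.sA.hn; omega, pow_succ', pow_mul, pow_two, hβ,
        one_pow]
    rw [(hβc.zpow_left _).mul_pow, e1, e2, one_mul]
  have h2 := Nat.le_of_dvd (pow_pos two_pos _) (orderOf_dvd_of_pow_eq_one h1)
  rw [ho] at h2
  exact absurd h2 (not_le.2 (Nat.pow_lt_pow_right one_lt_two (by omega)))

/-- The image of the generator of the cyclic part under an element normalizing `C × B`. -/
theorem img_x {k : G} (hk : ∀ q ∈ Subgroup.zpowers x ⊔ B, k * q * k⁻¹ ∈ Subgroup.zpowers x ⊔ B) :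
    k * aa m x' * k⁻¹ = aa m x' ∧ ∃ j : ℤ, Odd j ∧ ∃ β : G, (β = 1 ∨ β = aa m x') ∧
      k * x * k⁻¹ = x ^ j * β := by
  have hP : ∀ q ∈ Subgroup.zpowers x ⊔ B, k * q * k⁻¹ ∈ (P : Subgroup G) := fun q hq =>
    d.Q_le (hk q hq)
  refine ⟨d.fix_b (hP _ (Subgroup.mem_sup_right d.sB.x_mem))
    (hP _ (Subgroup.mem_sup_right d.sB.y_mem)), ?_⟩
  have hkN : k ∈ Subgroup.normalizer ((Subgroup.zpowers x ⊔ B : Subgroup G) : Set G) :=
    BS.mem_normalizer_of_conj_le hk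
  obtain ⟨w, hw, β, hβ, e⟩ := d.pair.mem_sup d.sA.C_le
    (hk x (Subgroup.mem_sup_left (Subgroup.mem_zpowers x)))
  have hcen : ∀ v ∈ B, Commute v β := by
    intro v hv
    have hv' : k⁻¹ * v * k ∈ Subgroup.zpowers x ⊔ B := by
      simpa using (Subgroup.mem_normalizer_iff.1 (inv_mem hkN) v).1 (Subgroup.mem_sup_right hv)
    obtain ⟨w', hw', v', hv'', e'⟩ := d.pair.mem_sup d.sA.C_le hv'
    have h1 : Commute (k⁻¹ * v * k) x := by
      rw [e']
      exact (d.sA.C_comm hw' (Subgroup.mem_zpowers x)).mul_left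
        (d.pair.comm x d.sA.x_mem v' hv'').symm
    have h2 := commute_conj k h1
    rw [e, show k * (k⁻¹ * v * k) * k⁻¹ = 1 * v by group] at h2
    exact ((d.pair.commute_iff (one_mem A) hv (d.sA.C_le hw) hβ).1 h2).2
  obtain ⟨j, rfl⟩ := Subgroup.mem_zpowers_iff.1 hw
  have hβ' := d.sB.center hβ hcen
  have hβ2 : β * β = 1 := by
    rcases hβ' with h | h <;> rw [h]
    exacts [one_mul 1, d.sB.a_sq]
  refine ⟨j, d.odd_exp (d.pair.comm x d.sA.x_mem β hβ) hβ2 ?_, β, hβ', e⟩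
  rw [← e, orderOf_conj, d.sA.ox]

/-- An element normalizing `C × B` normalizes `C`. -/
theorem norm_x {k : G} (hk : ∀ q ∈ Subgroup.zpowers x ⊔ B, k * q * k⁻¹ ∈ Subgroup.zpowers x ⊔ B) :
    k * x * k⁻¹ ∈ Subgroup.zpowers x := by
  haveI : Fact (Nat.Prime 2) := ⟨Nat.prime_two⟩
  obtain ⟨hb, i, hi, β, hβ, e⟩ := d.img_x hk
  rcases hβ with rfl | rfl
  · rw [e, mul_one]; exact zpow_mem (Subgroup.mem_zpowers x) i
  exfalso
  have hbx : ∀ j : ℤ, Commute (x ^ j) (aa m x') := fun j =>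
    d.pair.comm _ (d.sA.xz_mem j) _ d.sB.a_mem
  have hpow : ∀ l : ℕ, ∃ j : ℤ, Odd j ∧ k ^ l * x * (k ^ l)⁻¹ = x ^ j * aa m x' ^ l := by
    intro l
    induction l with
    | zero => exact ⟨1, odd_one, by simp⟩
    | succ l ih =>
      obtain ⟨j, hj, ej⟩ := ih
      refine ⟨i * j, hi.mul hj, ?_⟩
      rw [pow_succ', show k * k ^ l * x * (k * k ^ l)⁻¹ = k * (k ^ l * x * (k ^ l)⁻¹) * k⁻¹ by group,
        ej, conj_mul', ← conj_zpow, e, (hbx i).mul_zpow, zpow_odd d.sB.a_sq hj, ← zpow_mul,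
        ← conj_pow, hb, mul_assoc, ← pow_succ']
  set N := Subgroup.normalizer ((Subgroup.zpowers x ⊔ B : Subgroup G) : Set G)
  have hkN : k ∈ N := BS.mem_normalizer_of_conj_le hk
  have hPN : (P : Subgroup G) ≤ N := fun p hp => BS.mem_normalizer_of_conj_le fun q hq => by
    obtain ⟨w, hw, v, hv, rfl⟩ := d.pair.mem_sup d.sA.C_le hq
    obtain ⟨u, hu, v₀, hv₀, rfl⟩ := d.pair.split hp
    have e1 : u * v₀ * w * (u * v₀)⁻¹ = u * w * u⁻¹ := by
      rw [show u * v₀ * w * (u * v₀)⁻¹ = u * (v₀ * w * v₀⁻¹) * u⁻¹ by group,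
        mul_inv_eq_iff_eq_mul.2 (d.pair.comm w (d.sA.C_le hw) v₀ hv₀).symm.eq]
    have hvv : v₀ * v * v₀⁻¹ ∈ B := mul_mem (mul_mem hv₀ hv) (inv_mem hv₀)
    have e2 : u * v₀ * v * (u * v₀)⁻¹ = v₀ * v * v₀⁻¹ := by
      rw [show u * v₀ * v * (u * v₀)⁻¹ = u * (v₀ * v * v₀⁻¹) * u⁻¹ by group,
        mul_inv_eq_iff_eq_mul.2 (d.pair.comm u hu _ hvv).eq]
    rw [conj_mul', e1, e2]
    exact Subgroup.mul_mem_sup (d.sA.conj_C hu hw) hvv
  obtain ⟨l, t, ht, hord⟩ := Nat.exists_eq_two_pow_mul_odd (orderOf_pos k).ne'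
  have hp : IsPGroup 2 (Subgroup.zpowers (k ^ t)) := by
    refine IsPGroup.of_card (n := l) ?_
    rw [Nat.card_zpowers, orderOf_pow' _ ht.pos.ne', hord, Nat.gcd_eq_right (Dvd.intro_left _ rfl),
      Nat.mul_div_cancel _ ht.pos]
  obtain ⟨c, hc⟩ := Invol.exists_conj_subset_sylow
    (hp.comap_of_injective N.subtype Subtype.val_injective) (P.subtype hPN)
  have hcP : (c : G) * k ^ t * (c : G)⁻¹ ∈ (P : Subgroup G) :=
    Subgroup.mem_subgroupOf.1 (hc ⟨k ^ t, pow_mem hkN t⟩ (Subgroup.mem_zpowers _))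
  obtain ⟨-, j, -, β, hβ, ec⟩ := d.img_x fun q hq => (Subgroup.mem_normalizer_iff.1 c.2 q).1 hq
  set p := (c : G) * k ^ t * (c : G)⁻¹ with hpdef
  obtain ⟨u, hu, v, hv, ep⟩ := d.pair.split hcP
  obtain ⟨q, hq, eq⟩ := d.sA.conj_x hu
  have hpx : p * x * p⁻¹ = x ^ q := by
    rw [ep, show u * v * x * (u * v)⁻¹ = u * (v * x * v⁻¹) * u⁻¹ by group,
      mul_inv_eq_iff_eq_mul.2 (d.pair.comm x d.sA.x_mem v hv).symm.eq, eq]
  have hβ2 : β * β = 1 ∧ p * β * p⁻¹ = β ∧ ∀ j : ℤ, Commute (x ^ j) β := by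
    rcases hβ with rfl | rfl
    · exact ⟨one_mul 1, by group, fun _ => Commute.one_right _⟩
    · exact ⟨d.sB.a_sq, mul_inv_eq_iff_eq_mul.2 (d.b_P hcP).eq, hbx⟩
  have hs : k ^ t * x * (k ^ t)⁻¹ = x ^ q := by
    calc k ^ t * x * (k ^ t)⁻¹ = (c : G)⁻¹ * (p * ((c : G) * x * (c : G)⁻¹) * p⁻¹) * c := by
          rw [hpdef]; group
      _ = (c : G)⁻¹ * ((c : G) * x * (c : G)⁻¹) ^ q * c := by
          rw [ec, conj_mul', ← conj_zpow, hpx, hβ2.2.1, (hβ2.2.2 j).mul_zpow,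
            zpow_odd hβ2.1 hq, ← zpow_mul, ← zpow_mul, mul_comm q j]
      _ = x ^ q := by rw [conj_zpow]; group
  obtain ⟨j', -, ej⟩ := hpow t
  rw [hs] at ej
  have hbt : aa m x' ^ t = aa m x' := by
    rw [← zpow_natCast]; exact zpow_odd d.sB.a_sq ((Int.odd_coe_nat t).2 ht)
  rw [hbt, ← mul_one (x ^ q)] at ej
  exact d.sB.a_ne (d.pair.uniq (d.sA.xz_mem q) (d.sA.xz_mem j') (one_mem B) d.sB.a_mem ej).2.symm

theorem line {z u g : G} (hz : z ∈ Subgroup.zpowers x) (hz2 : z * z ≠ 1)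
    (hu : u ∈ Subgroup.zpowers x) : g * z * g⁻¹ ≠ u * aa m x' := by
  intro e
  haveI : Fact (Nat.Prime 2) := ⟨Nat.prime_two⟩
  set Q := Subgroup.zpowers x ⊔ B with hQ
  set w := u * aa m x' with hw
  set H := Subgroup.centralizer ({w} : Set G) with hH
  have hwQ : w ∈ Q := Subgroup.mul_mem_sup hu d.sB.a_mem
  have hw2 : w * w ≠ 1 := by
    rw [← e, ← conj_mul']
    exact fun h => hz2 (conj_eq_one_iff.1 h)
  have hQc : ∀ q ∈ Q, Commute q z ∧ Commute q w := by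
    intro q hq
    obtain ⟨w', hw', v, hv, rfl⟩ := d.pair.mem_sup d.sA.C_le hq
    refine ⟨(d.sA.C_comm hw' hz).mul_left (d.pair.comm z (d.sA.C_le hz) v hv).symm, ?_⟩
    exact (d.pair.commute_iff (d.sA.C_le hw') hv (d.sA.C_le hu) d.sB.a_mem).2
      ⟨d.sA.C_comm hw' hu, d.sB.a_central hv⟩
  have hQH : Q ≤ H := fun q hq => Subgroup.mem_centralizer_singleton_iff.2 (hQc q hq).2.eq
  obtain ⟨R, hR⟩ :=
    ((P.isPGroup'.to_le d.Q_le).comap_of_injective H.subtype Subtype.val_injective).exists_le_sylow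
  obtain ⟨t, ht⟩ := Invol.exists_conj_subset_sylow (R.isPGroup'.map H.subtype) P
  set K := ((R : Subgroup H).map H.subtype).map (MulAut.conj t).toMonoidHom with hK
  have hKP : K ≤ (P : Subgroup G) := by
    rintro _ ⟨r, hr, rfl⟩
    exact ht r hr
  have hne : K ≠ (P : Subgroup G) := fun hKeq => hw2 (by
    have hwP : t * w * t⁻¹ ∈ (P : Subgroup G) := ht w
      ⟨⟨w, Subgroup.mem_centralizer_singleton_iff.2 rfl⟩, hR (Subgroup.mem_subgroupOf.2 hwQ), rfl⟩
    have hcen : ∀ p ∈ (P : Subgroup G), Commute p (t * w * t⁻¹) := by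
      intro p hp
      rw [← hKeq] at hp
      obtain ⟨_, ⟨r, -, rfl⟩, rfl⟩ := hp
      exact commute_conj t (Subgroup.mem_centralizer_singleton_iff.1 r.2)
    have h1 : t * w * t⁻¹ * (t * w * t⁻¹) = 1 := by
      rcases d.center_P hwP hcen with h | h | h | h <;> rw [h]
      · exact one_mul 1
      · exact d.sA.a_sq
      · exact d.sB.a_sq
      · rw [d.pair.sq d.sA.a_mem d.sB.a_mem, d.sA.a_sq, d.sB.a_sq, one_mul]
    rw [← conj_mul'] at h1
    exact conj_eq_one_iff.1 h1)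
  have hcard : Nat.card (R : Subgroup H) ≤ Nat.card Q := by
    have e1 : Nat.card Q * 2 = Nat.card (P : Subgroup G) := by
      have h := Subgroup.card_mul_index (Q.subgroupOf (P : Subgroup G))
      rw [Nat.card_congr (Subgroup.subgroupOfEquivOfLe d.Q_le).toEquiv,
        show (Q.subgroupOf (P : Subgroup G)).index = 2 from d.relIndex_C] at h
      exact h
    have e2 : Nat.card K = Nat.card (R : Subgroup H) := by
      rw [hK, Subgroup.card_map_of_injective (MulEquiv.injective _),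
        Subgroup.card_map_of_injective Subtype.val_injective]
    have e3 := Subgroup.card_mul_index (K.subgroupOf (P : Subgroup G))
    rw [Nat.card_congr (Subgroup.subgroupOfEquivOfLe hKP).toEquiv] at e3
    have e4 : 2 ≤ (K.subgroupOf (P : Subgroup G)).index :=
      Subgroup.one_lt_index_of_ne_top fun h => hne (le_antisymm hKP
        (Subgroup.subgroupOf_eq_top.1 h))
    have : Nat.card K * 2 ≤ Nat.card Q * 2 := by
      rw [e1, ← e3]; exact Nat.mul_le_mul_left _ e4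
    omega
  have hReq : Q.subgroupOf H = (R : Subgroup H) := Subgroup.eq_of_le_of_card_ge hR
    (hcard.trans_eq (Nat.card_congr (Subgroup.subgroupOfEquivOfLe hQH).toEquiv).symm)
  have hgH : Q.map (MulAut.conj g).toMonoidHom ≤ H := by
    rintro _ ⟨q, hq, rfl⟩
    refine Subgroup.mem_centralizer_singleton_iff.2 ?_
    rw [← e]
    exact (commute_conj g (hQc q hq).1).eq
  obtain ⟨c, hc⟩ := Invol.exists_conj_subset_sylow
    (((P.isPGroup'.to_le d.Q_le).map (MulAut.conj g).toMonoidHom).comap_of_injective H.subtype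
      Subtype.val_injective) R
  have hk : ∀ q ∈ Q, (c : G) * g * q * ((c : G) * g)⁻¹ ∈ Q := by
    intro q hq
    have h1 := hc ⟨g * q * g⁻¹, hgH ⟨q, hq, rfl⟩⟩ (Subgroup.mem_subgroupOf.2 ⟨q, hq, rfl⟩)
    rw [show (c * ⟨g * q * g⁻¹, _⟩ * c⁻¹ ∈ R) = (c * ⟨g * q * g⁻¹, _⟩ * c⁻¹ ∈ (R : Subgroup H))
      from rfl, ← hReq, Subgroup.mem_subgroupOf] at h1
    simpa [mul_assoc] using h1
  have hx := d.norm_x hk
  obtain ⟨i, rfl⟩ := Subgroup.mem_zpowers_iff.1 hz
  have hzC : (c : G) * g * x ^ i * ((c : G) * g)⁻¹ ∈ Subgroup.zpowers x := by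
    rw [← conj_zpow]; exact zpow_mem hx i
  rw [show (c : G) * g * x ^ i * ((c : G) * g)⁻¹ = (c : G) * (g * x ^ i * g⁻¹) * (c : G)⁻¹ by group,
    e, mul_inv_eq_iff_eq_mul.2 (Subgroup.mem_centralizer_singleton_iff.1 c.2)] at hzC
  have := mul_mem (inv_mem hu) hzC
  rw [hw, inv_mul_cancel_left] at this
  exact d.sB.a_ne (d.pair.eq_one_of_mem (d.sA.C_le this) d.sB.a_mem)

end Data

end Cfsg.Agent.Fus.SDProduct
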