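import Cfsg.Agent.Lib.Fus.SDProduct.Reflection
import Cfsg.Agent.Lib.Fus.SDProduct.Line

/-!
# The classes of the elements of order four and strong closure
-/

set_option linter.unusedSectionVars false
set_option linter.style.haveILetI false

namespace Cfsg.Agent.Fus.SDProduct

open Cfsg.Agent.ProdFus.Split (Pair InvolClosed conj_mul' commute_conj orderOf_two mul_self_two
  orderOf_conj orderOf_pow_two_pow)

universe u

variable {G : Type u} [Group G] [Finite G]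

/-- All the elements of order four of each factor are conjugate. -/
structure Fused (P : Sylow 2 G) (A B : Subgroup G) (n m : ℕ) (x y x' y' : G) : Prop
    extends Moved P A B n m x y x' y' where
  qA : ∃ g : G, g * (x * y) * g⁻¹ = cc n x ∧ g * aa m x' * g⁻¹ = aa m x' ∧
    ∀ p ∈ (P : Subgroup G), Commute p (x * y) → g * p * g⁻¹ ∈ (P : Subgroup G)
  qB : ∃ g : G, g * (x' * y') * g⁻¹ = cc m x' ∧ g * aa n x * g⁻¹ = aa n x ∧
    ∀ p ∈ (P : Subgroup G), Commute p (x' * y') → g * p * g⁻¹ ∈ (P : Subgroup G)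

theorem SD.sq_a {A : Subgroup G} {n : ℕ} {x y : G} (h : SD A n x y) {u : G} (hu : u ∈ A)
    (h1 : u * u ≠ 1) (h2 : u * u * (u * u) = 1) : u * u = aa n x := by
  by_contra h3
  have hC := h.mem_C_of_sq hu h1 h3
  exact (h.C_sq (mul_mem hC hC) h2).elim h1 h3

variable {P : Sylow 2 G} {A B : Subgroup G} {n m : ℕ} {x y x' y' : G}

namespace Moved

variable (d : Moved P A B n m x y x' y')
include d

theorem move_four : ∃ g : G, (g * (x * y) * g⁻¹ = cc n x ∨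
      g * (x * y) * g⁻¹ = cc n x * aa m x') ∧ g * aa m x' * g⁻¹ = aa m x' ∧
    ∀ p ∈ (P : Subgroup G), Commute p (x * y) → g * p * g⁻¹ ∈ (P : Subgroup G) := by
  set T := (P : Subgroup G) ⊓ Subgroup.centralizer ({x * y} : Set G) with hT
  have hxyA : x * y ∈ A := mul_mem d.sA.x_mem d.sA.y_mem
  have hBc : ∀ v ∈ B, Commute v (x * y) := fun v hv => (d.pair.comm _ hxyA v hv).symm
  have hpow : ∀ l : ℕ, 2 ∣ l → ∀ g : G, g * (x * y) ^ l * g⁻¹ ∈ (P : Subgroup G) →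
      g * (x * y) ^ l * g⁻¹ ∈ d.sA.dd ⊔ B := by
    rintro l ⟨k, rfl⟩ g hg
    rw [pow_mul, pow_two, d.sA.xy_sq] at hg ⊢
    refine Subgroup.mem_sup_left ?_
    have h2 : aa n x ^ k * aa n x ^ k = 1 := by
      rw [← (Commute.refl (aa n x)).mul_pow, d.sA.a_sq, one_pow]
    by_cases h1 : aa n x ^ k = 1
    · rw [h1, mul_one, mul_inv_cancel]; exact one_mem _
    · refine d.sA.invol_mem_dd (d.involClosed _ (pow_mem d.sA.a_mem k) (orderOf_two h2 h1) g hg) ?_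
      rw [← conj_mul', h2]; group
  obtain ⟨g, hgT, hgP, hgM⟩ := exists_move_pow d.h2 P d.relIndex_dd (d.pair.leA hxyA) hpow
    (T := T) (P.isPGroup'.to_le inf_le_left)
    (fun t ht => Subgroup.mem_centralizer_singleton_iff.1 ht.2)
  have hTP : ∀ p ∈ (P : Subgroup G), Commute p (x * y) → g * p * g⁻¹ ∈ (P : Subgroup G) :=
    fun p hp hpc => hgT p ⟨hp, Subgroup.mem_centralizer_singleton_iff.2 hpc.eq⟩
  obtain ⟨u, hu, v, hv, e⟩ := d.pair.mem_sup d.sA.dd_le hgM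
  have huA := d.sA.dd_le hu
  have hB : ∀ v ∈ B, g * v * g⁻¹ ∈ (P : Subgroup G) := fun v hv =>
    hTP v (d.pair.leB hv) (hBc v hv)
  have hb := d.fix_b (hB _ d.sB.x_mem) (hB _ d.sB.y_mem)
  have hv' := d.part_central huA hv (hB _ d.sB.x_mem) (hB _ d.sB.y_mem)
    (e ▸ commute_conj g (hBc x' d.sB.x_mem)) (e ▸ commute_conj g (hBc y' d.sB.y_mem))
  have hv2 : v * v = 1 := by
    rcases hv' with h | h <;> rw [h]
    exacts [one_mul 1, d.sB.a_sq]
  have hu2 : u * u = g * aa n x * g⁻¹ := by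
    rw [← d.sA.xy_sq, conj_mul', e, d.pair.sq huA hv, hv2, mul_one]
  have hu1 : u * u ≠ 1 := fun h => d.sA.a_ne (conj_eq_one_iff.1 (hu2.symm.trans h))
  have huC := d.sA.mem_C_of_dd hu hu1
  have hua : u * u = aa n x := (d.sA.C_sq (mul_mem huC huC)
    (by rw [hu2, ← conj_mul', d.sA.a_sq]; group)).resolve_left hu1
  rcases d.sA.C_four huC hua with rfl | rfl
  · refine ⟨g, ?_, hb, hTP⟩
    rcases hv' with rfl | rfl
    · exact .inl (e.trans (mul_one _))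
    · exact .inr e
  · have hyP := d.pair.leA d.sA.y_mem
    have hyv : y * v * y⁻¹ = v := mul_inv_eq_iff_eq_mul.2 (d.pair.comm y d.sA.y_mem v hv).eq
    refine ⟨y * g, ?_, ?_, fun p hp hpc => ?_⟩
    · rw [show y * g * (x * y) * (y * g)⁻¹ = y * (g * (x * y) * g⁻¹) * y⁻¹ by group, e,
        conj_mul', hyv, ← conj_inv, d.sA.c_conj, inv_inv]
      rcases hv' with rfl | rfl
      · exact .inl (mul_one _)
      · exact .inr rfl
    · rw [show y * g * aa m x' * (y * g)⁻¹ = y * (g * aa m x' * g⁻¹) * y⁻¹ by group, hb,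
        mul_inv_eq_iff_eq_mul.2 (d.b_P hyP).eq]
    · rw [show y * g * p * (y * g)⁻¹ = y * (g * p * g⁻¹) * y⁻¹ by group]
      exact mul_mem (mul_mem hyP (hTP p hp hpc)) (inv_mem hyP)

theorem twist_four : ∃ (A₁ : Subgroup G) (x₁ : G), Moved P A₁ B n m x₁ y x' y' ∧
    aa n x₁ = aa n x ∧
    ∃ g : G, g * (x₁ * y) * g⁻¹ = cc n x₁ ∧ g * aa m x' * g⁻¹ = aa m x' ∧
      ∀ p ∈ (P : Subgroup G), Commute p (x₁ * y) → g * p * g⁻¹ ∈ (P : Subgroup G) := by
  obtain ⟨g, hg | hg, hb, hP⟩ := d.move_four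
  · exact ⟨A, x, d, rfl, g, hg, hb, hP⟩
  obtain ⟨A₁, d₁, ha, hc⟩ := d.toData.twist (β₁ := aa m x') (β₂ := 1) (.inr rfl) (.inl rfl)
  rw [mul_one] at d₁
  have hyb : x * aa m x' * y = x * y * aa m x' := by
    rw [mul_assoc, ← (d.pair.comm y d.sA.y_mem _ d.sB.a_mem).eq, ← mul_assoc]
  refine ⟨A₁, _, { toData := d₁, mA := ?_, mB := ?_ }, ha, g, ?_, hb, fun p hp hpc => hP p hp ?_⟩
  · rw [ha]; exact d.mA
  · rw [ha]; exact d.mB
  · rw [hyb, conj_mul', hg, hb, hc, mul_assoc, d.sB.a_sq, mul_one]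
  · rw [hyb] at hpc
    have := hpc.mul_right (d.b_P hp).inv_right
    rwa [mul_inv_cancel_right] at this

theorem exists_fused : ∃ (A₁ B₁ : Subgroup G) (x₁ x₁' : G),
    Fused P A₁ B₁ n m x₁ y x₁' y' := by
  obtain ⟨A₁, x₁, d₁, -, hA⟩ := d.twist_four
  obtain ⟨B₁, x₁', d₂, hb, hB⟩ := d₁.swap.twist_four
  refine ⟨A₁, B₁, x₁, x₁', { toMoved := d₂.swap, qA := ?_, qB := hB }⟩
  rw [hb]; exact hA

end Moved

namespace Fused

variable (d : Fused P A B n m x y x' y')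
include d

theorem swap : Fused P B A m n x' y' x y := ⟨d.toMoved.swap, d.qB, d.qA⟩

/-- An element of order four of `A` is carried to `c`, the central involution of `B` being fixed. -/
theorem to_c {u : G} (hu : u ∈ A) (h2 : u * u = aa n x) :
    ∃ g : G, g * u * g⁻¹ = cc n x ∧ g * aa m x' * g⁻¹ = aa m x' ∧
      ∀ v ∈ B, g * v * g⁻¹ ∈ (P : Subgroup G) := by
  rcases d.sA.four hu h2 with rfl | rfl | ⟨k, hk, rfl⟩
  · exact ⟨1, by group, by group, fun v hv => by simpa using d.pair.leB hv⟩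
  · refine ⟨y, ?_, mul_inv_eq_iff_eq_mul.2 (d.b_P (d.pair.leA d.sA.y_mem)).eq, fun v hv => ?_⟩
    · rw [← conj_inv, d.sA.c_conj, inv_inv]
    · rw [(d.pair.comm y d.sA.y_mem v hv).eq, mul_inv_cancel_right]
      exact d.pair.leB hv
  · obtain ⟨g, hg, hb, hP⟩ := d.qA
    have hkA := d.sA.C_le hk
    have hkv : ∀ v ∈ B, g * k⁻¹ * v * (g * k⁻¹)⁻¹ = g * v * g⁻¹ := fun v hv => by
      rw [show g * k⁻¹ * v * (g * k⁻¹)⁻¹ = g * (k⁻¹ * v * k) * g⁻¹ by group,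
        mul_assoc k⁻¹, ← (d.pair.comm k hkA v hv).eq, inv_mul_cancel_left]
    refine ⟨g * k⁻¹, ?_, ?_, fun v hv => ?_⟩
    · rw [← hg]; group
    · rw [hkv _ d.sB.a_mem, hb]
    · rw [hkv v hv]
      exact hP v (d.pair.leB hv) (d.pair.comm _ (mul_mem d.sA.x_mem d.sA.y_mem) v hv).symm

/-- An element centralizing `A` and carrying a noncentral involution of `B` onto `b`. -/
theorem to_b {v : G} (hv : v ∈ B) (h2 : v * v = 1) (h1 : v ≠ 1) (hne : v ≠ aa m x') :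
    ∃ g : G, g * v * g⁻¹ = aa m x' ∧ g * aa n x * g⁻¹ = aa n x ∧
      ∀ p ∈ A, g * p * g⁻¹ ∈ (P : Subgroup G) := by
  rcases d.sB.invol hv h2 with e | e | ⟨k, hk, rfl⟩
  · exact absurd e h1
  · exact absurd e hne
  · obtain ⟨g, hg, ha, hP⟩ := d.mB
    have hkB := d.sB.C_le hk
    have hkp : ∀ p ∈ A, g * k⁻¹ * p * (g * k⁻¹)⁻¹ = g * p * g⁻¹ := fun p hp => by
      rw [show g * k⁻¹ * p * (g * k⁻¹)⁻¹ = g * (k⁻¹ * p * k) * g⁻¹ by group,
        mul_assoc k⁻¹, (d.pair.comm p hp k hkB).eq, inv_mul_cancel_left]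
    refine ⟨g * k⁻¹, ?_, ?_, fun p hp => ?_⟩
    · rw [← hg]; group
    · rw [hkp _ d.sA.a_mem, ha]
    · rw [hkp p hp]
      exact hP p (d.pair.leA hp) (d.pair.comm p hp y' d.sB.y_mem)

theorem no_cb {g u : G} (hu : u ∈ A) (h2 : u * u = aa n x) :
    g * cc n x * g⁻¹ ≠ u * aa m x' := by
  intro e
  obtain ⟨k, hk, hb, -⟩ := d.to_c hu h2
  refine d.line (g := k * g) d.sA.c_C (by rw [d.sA.c_sq]; exact d.sA.a_ne) d.sA.c_C ?_
  rw [show k * g * cc n x * (k * g)⁻¹ = k * (g * cc n x * g⁻¹) * k⁻¹ by group, e, conj_mul', hk, hb]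

theorem c_into {g : G} (hP : ∀ p ∈ A, g * p * g⁻¹ ∈ (P : Subgroup G)) :
    g * cc n x * g⁻¹ ∈ A := by
  have hyne : y ≠ 1 := Invol.ne_one_of_orderOf_two d.sA.oy
  have hcy : cc n x * y ∈ A := mul_mem d.sA.c_mem d.sA.y_mem
  have hcyne : cc n x * y ≠ 1 := fun h => d.sA.y_notC (by
    rw [show y = (cc n x)⁻¹ from eq_inv_of_mul_eq_one_right h]; exact inv_mem d.sA.c_C)
  have h1 := d.involClosed _ hcy (orderOf_two d.sA.cy_sq hcyne) g (hP _ hcy)
  have h2 := d.involClosed _ d.sA.y_mem d.sA.oy g (hP _ d.sA.y_mem)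
  have h3 := mul_mem h1 h2
  rw [← conj_mul', show cc n x * y * y = cc n x by rw [mul_assoc, d.sA.y_sq, mul_one]] at h3
  exact h3

theorem c_part {g u v : G} (hu : u ∈ A) (h2 : u * u = aa n x) (hv : v ∈ B) (hv2 : v * v = 1)
    (e : g * cc n x * g⁻¹ = u * v) : v = 1 := by
  by_contra hv1
  obtain ⟨k, hk, -, hkB⟩ := d.to_c hu h2
  have e' : k * g * cc n x * (k * g)⁻¹ = cc n x * (k * v * k⁻¹) := by
    rw [show k * g * cc n x * (k * g)⁻¹ = k * (g * cc n x * g⁻¹) * k⁻¹ by group, e, conj_mul', hk]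
  have hw1 : k * v * k⁻¹ ≠ 1 := fun h => hv1 (conj_eq_one_iff.1 h)
  have hw2 : k * v * k⁻¹ * (k * v * k⁻¹) = 1 := by rw [← conj_mul', hv2]; group
  have hwB := d.swap.involClosed v hv (orderOf_two hv2 hv1) k (hkB v hv)
  by_cases hwb : k * v * k⁻¹ = aa m x'
  · rw [hwb] at e'
    exact d.no_cb d.sA.c_mem d.sA.c_sq e'
  obtain ⟨h, hh, ha, hhA⟩ := d.to_b hwB hw2 hw1 hwb
  refine d.no_cb (g := h * (k * g)) (d.c_into hhA) ?_ ?_
  · rw [← conj_mul', d.sA.c_sq, ha]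
  · rw [show h * (k * g) * cc n x * (h * (k * g))⁻¹ = h * (k * g * cc n x * (k * g)⁻¹) * h⁻¹ by group,
      e', conj_mul', hh]

theorem closed_four {z g : G} (hz : z ∈ A) (h2 : z * z = aa n x)
    (hg : g * z * g⁻¹ ∈ (P : Subgroup G)) : g * z * g⁻¹ ∈ A := by
  obtain ⟨u, hu, v, hv, e⟩ := d.pair.split hg
  have hga : g * aa n x * g⁻¹ ∈ (P : Subgroup G) := by
    rw [← h2, conj_mul']; exact mul_mem hg hg
  have haA := d.involClosed _ d.sA.a_mem d.sA.a_ord g hga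
  have hsq : u * u * (v * v) = g * aa n x * g⁻¹ * 1 := by
    rw [← d.pair.sq hu hv, ← e, ← conj_mul', h2, mul_one]
  obtain ⟨huu, hvv⟩ := d.pair.uniq (mul_mem hu hu) haA (mul_mem hv hv) (one_mem B) hsq
  have hua : u * u = aa n x := d.sA.sq_a hu
    (fun h => d.sA.a_ne (conj_eq_one_iff.1 (huu.symm.trans h)))
    (by rw [huu, ← conj_mul', d.sA.a_sq]; group)
  obtain ⟨k, hk, -, -⟩ := d.to_c hz h2
  have e' : g * k⁻¹ * cc n x * (g * k⁻¹)⁻¹ = u * v := by rw [← e, ← hk]; group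
  rw [e, d.c_part hu hua hv hvv e', mul_one]
  exact hu

theorem conj_mem {g : G} (hP : ∀ p ∈ A, g * p * g⁻¹ ∈ (P : Subgroup G)) {z : G} (hz : z ∈ A) :
    g * z * g⁻¹ ∈ A := by
  have hy := d.involClosed _ d.sA.y_mem d.sA.oy g (hP _ d.sA.y_mem)
  have hxyA : x * y ∈ A := mul_mem d.sA.x_mem d.sA.y_mem
  have hxy := d.closed_four hxyA d.sA.xy_sq (hP _ hxyA)
  have hx : g * x * g⁻¹ ∈ A := by
    have := mul_mem hxy hy
    rwa [← conj_mul', show x * y * y = x by rw [mul_assoc, d.sA.y_sq, mul_one]] at this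
  obtain ⟨i, rfl | rfl⟩ := d.sA.cases hz
  · rw [← conj_zpow]; exact zpow_mem hx i
  · rw [conj_mul', ← conj_zpow]; exact mul_mem (zpow_mem hx i) hy

theorem C_part {z u v g : G} (hz : z ∈ Subgroup.zpowers x) (hz2 : z * z ≠ 1) (hu : u ∈ A)
    (hv : v ∈ B) (hv2 : v * v = 1) (e : g * z * g⁻¹ = u * v) : v = 1 := by
  by_cases hza : z * z = aa n x
  · have hmem := d.closed_four (d.sA.C_le hz) hza (g := g) (e ▸ d.pair.mul_mem' hu hv)
    exact ((d.pair.uniq hu hmem hv (one_mem B) (e.symm.trans (mul_one _).symm))).2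
  by_contra hv1
  have h4 : ∀ {k w : G}, k * z * k⁻¹ = w → w * w ≠ 1 ∧ ¬ (w * w * (w * w) = 1) := by
    rintro k w rfl
    refine ⟨fun h => hz2 ?_, fun h => ?_⟩
    · rw [← conj_mul'] at h; exact conj_eq_one_iff.1 h
    · rw [← conj_mul', ← conj_mul'] at h
      exact (d.sA.C_sq (mul_mem hz hz) (conj_eq_one_iff.1 h)).elim hz2 hza
  have hC : ∀ {k w r : G}, w ∈ A → r ∈ B → r * r = 1 → k * z * k⁻¹ = w * r →
      w ∈ Subgroup.zpowers x := by
    intro k w r hw hr hr2 e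
    obtain ⟨h1, h2⟩ := h4 e
    rw [d.pair.sq hw hr, hr2, mul_one] at h1 h2
    exact d.sA.mem_C_of_sq hw h1 fun h => h2 (by rw [h, d.sA.a_sq])
  by_cases hvb : v = aa m x'
  · subst hvb
    exact d.line hz hz2 (hC hu hv hv2 e) e
  obtain ⟨h, hh, -, hhA⟩ := d.to_b hv hv2 hv1 hvb
  have e' : h * g * z * (h * g)⁻¹ = h * u * h⁻¹ * aa m x' := by
    rw [show h * g * z * (h * g)⁻¹ = h * (g * z * g⁻¹) * h⁻¹ by group, e, conj_mul', hh]
  exact d.line hz hz2 (hC (d.conj_mem hhA hu) d.sB.a_mem d.sB.a_sq e') e'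

theorem stronglyClosed : IsStronglyClosed A (P : Subgroup G) := by
  refine ⟨d.pair.leA, fun z hz g hg => ?_⟩
  haveI : Fact (Nat.Prime 2) := ⟨Nat.prime_two⟩
  by_cases hz1 : z = 1
  · rw [hz1, mul_one, mul_inv_cancel]; exact one_mem A
  by_cases hz2 : z * z = 1
  · exact d.involClosed z hz (orderOf_two hz2 hz1) g hg
  by_cases hza : z * z = aa n x
  · exact d.closed_four hz hza hg
  have hzC := d.sA.mem_C_of_sq hz hz2 hza
  obtain ⟨u, hu, v, hv, e⟩ := d.pair.split hg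
  suffices hv1 : v = 1 by rw [e, hv1, mul_one]; exact hu
  by_contra hv1
  obtain ⟨k, hk⟩ := IsPGroup.iff_orderOf.1 P.isPGroup' ⟨z, d.pair.leA hz⟩
  rw [Subgroup.orderOf_mk] at hk
  obtain ⟨k, rfl⟩ : ∃ i, k = i + 1 := by
    rcases k with _ | i
    · rw [pow_zero, orderOf_eq_one_iff] at hk; exact absurd hk hz1
    · exact ⟨i, rfl⟩
  have hzk : orderOf (z ^ 2 ^ k) = 2 := by
    simpa using orderOf_pow_two_pow (x := z) (i := k) (j := 1) hk
  have himg : g * z ^ 2 ^ k * g⁻¹ = u ^ 2 ^ k * v ^ 2 ^ k := by rw [← conj_pow, e, d.pair.pow hu hv]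
  have hmem := d.involClosed _ (pow_mem hz _) hzk g
    (himg ▸ d.pair.mul_mem' (pow_mem hu _) (pow_mem hv _))
  have hvk : v ^ 2 ^ k = 1 := (d.pair.uniq (pow_mem hu _) hmem (pow_mem hv _) (one_mem B)
    (himg.symm.trans (mul_one _).symm)).2
  obtain ⟨l, hl⟩ := IsPGroup.iff_orderOf.1 P.isPGroup' ⟨v, d.pair.leB hv⟩
  rw [Subgroup.orderOf_mk] at hl
  obtain ⟨l, rfl⟩ : ∃ i, l = i + 1 := by
    rcases l with _ | i
    · rw [pow_zero, orderOf_eq_one_iff] at hl; exact absurd hl hv1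
    · exact ⟨i, rfl⟩
  have hlk : l + 1 ≤ k := by
    have := orderOf_dvd_of_pow_eq_one hvk
    rw [hl] at this
    exact (Nat.pow_dvd_pow_iff_le_right (by norm_num)).1 this
  have h1 : z ^ 2 ^ l * z ^ 2 ^ l ≠ 1 := by
    rw [← pow_add, ← two_mul, ← pow_succ']
    intro h
    have := orderOf_dvd_of_pow_eq_one h
    rw [hk] at this
    have := (Nat.pow_dvd_pow_iff_le_right (by norm_num)).1 this
    omega
  have h2 : v ^ 2 ^ l * v ^ 2 ^ l = 1 := by
    rw [← pow_add, ← two_mul, ← pow_succ', ← hl, pow_orderOf_eq_one]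
  have h3 : v ^ 2 ^ l ≠ 1 := fun h => by
    have := orderOf_dvd_of_pow_eq_one h
    rw [hl] at this
    have := (Nat.pow_dvd_pow_iff_le_right (by norm_num)).1 this
    omega
  exact h3 (d.C_part (pow_mem hzC _) h1 (pow_mem hu _) (pow_mem hv _) h2
    (by rw [← conj_pow, e, d.pair.pow hu hv]))

end Fused

end Cfsg.Agent.Fus.SDProduct
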