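import Cfsg.Agent.Lib.Fus.SDProduct.Four
import Cfsg.Agent.Lib.Fus.SDProduct.OneSide

/-!
# Groups with a product of two quasi-dihedral groups as Sylow 2-subgroup

The classification of simple groups with quasi-dihedral Sylow 2-subgroups is an explicit
hypothesis.
-/

set_option linter.unusedSectionVars false
set_option linter.style.haveILetI false

namespace Cfsg.Agent.Fus.SDProduct

open Cfsg.Agent.ProdFus.Split (Pair InvolClosed conj_mul' commute_conj orderOf_two mul_self_two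
  orderOf_conj)

universe u

variable {G : Type u} [Group G] [Finite G]

theorem Data.exists_fused {P : Sylow 2 G} {A B : Subgroup G} {n m : ℕ} {x y x' y' : G}
    (d : Data P A B n m x y x' y') :
    ∃ (A₁ B₁ : Subgroup G) (x₁ y₁ x₁' y₁' : G), Fused P A₁ B₁ n m x₁ y₁ x₁' y₁' := by
  obtain ⟨A₁, B₁, y₁, y₁', d₁⟩ := d.exists_moved
  obtain ⟨A₂, B₂, x₂, x₂', d₂⟩ := d₁.exists_fused
  exact ⟨A₂, B₂, x₂, y₁, x₂', y₁', d₂⟩

namespace Fused

variable {P : Sylow 2 G} {A B : Subgroup G} {n m : ℕ} {x y x' y' : G}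
variable (d : Fused P A B n m x y x' y')
include d

theorem prod : ProdFus.Prod P A B :=
  ⟨d.stronglyClosed, d.swap.stronglyClosed, d.pair.comm, d.pair.disj, d.pair.sup⟩

theorem closures_commute (hO : Cfsg.oddCore G = ⊥) :
    ∀ p ∈ Subgroup.normalClosure (A : Set G), ∀ q ∈ Subgroup.normalClosure (B : Set G),
      Commute p q :=
  SDProduct.closures_commute hO d.prod

theorem closures_inf (hO : Cfsg.oddCore G = ⊥) (hZ : Subgroup.center G = ⊥) :
    Subgroup.normalClosure (A : Set G) ⊓ Subgroup.normalClosure (B : Set G) = ⊥ := by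
  haveI : Fact (Nat.Prime 2) := ⟨Nat.prime_two⟩
  set Z := Subgroup.normalClosure (A : Set G) ⊓ Subgroup.normalClosure (B : Set G) with hZdef
  haveI : Z.Normal := Subgroup.normal_inf_normal _ _
  have hcP : ∀ w ∈ Z, ∀ p ∈ (P : Subgroup G), Commute p w := by
    intro w hw p hp
    obtain ⟨u, hu, v, hv, rfl⟩ := d.pair.split hp
    exact (d.closures_commute hO u (Subgroup.le_normalClosure hu) w hw.2).mul_left
      (d.closures_commute hO w hw.1 v (Subgroup.le_normalClosure hv)).symm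
  have hPZ : (P : Subgroup G) ⊓ Z = ⊥ := by
    rw [eq_bot_iff]
    intro z hz
    rw [Subgroup.mem_bot]
    have hzc : z ∈ Subgroup.center G := by
      rw [Subgroup.mem_center_iff]
      intro g
      have hw : g * z * g⁻¹ ∈ Z := (inferInstance : Z.Normal).conj_mem z hz.2 g
      have h := d.central_conj_eq hz.1 (hcP z hz.2) (hcP _ hw)
      exact mul_inv_eq_iff_eq_mul.1 h
    rwa [hZ, Subgroup.mem_bot] at hzc
  have hodd : Odd ((⊥ : Subgroup G).relIndex Z) := by
    rw [← hPZ, Subgroup.inf_relIndex_right]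
    exact Nat.odd_iff.2 (Nat.two_dvd_ne_zero.1 (Grp.sylow_inf_normal_relIndex P Z))
  rw [Subgroup.relIndex_bot_left] at hodd
  rw [eq_bot_iff, ← hO]
  exact Grp.le_pPrimeCore (p := 2) inferInstance (Nat.coprime_two_right.2 hodd)

theorem inf_closure (hO : Cfsg.oddCore G = ⊥) (hZ : Subgroup.center G = ⊥) :
    (P : Subgroup G) ⊓ Subgroup.normalClosure (A : Set G) = A := by
  refine le_antisymm (fun z hz => ?_) (le_inf d.pair.leA Subgroup.le_normalClosure)
  obtain ⟨u, hu, v, hv, rfl⟩ := d.pair.split hz.1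
  have h1 : v ∈ Subgroup.normalClosure (A : Set G) := by
    have := mul_mem (inv_mem (Subgroup.le_normalClosure hu)) hz.2
    rwa [inv_mul_cancel_left] at this
  have h2 : v ∈ Subgroup.normalClosure (A : Set G) ⊓ Subgroup.normalClosure (B : Set G) :=
    ⟨h1, Subgroup.le_normalClosure hv⟩
  rw [d.closures_inf hO hZ, Subgroup.mem_bot] at h2
  rw [h2, mul_one]
  exact hu

theorem factor (hSD : Invol.AbgConsumers.SDStmt.{u}) (hO : Cfsg.oddCore G = ⊥)
    (hZ : Subgroup.center G = ⊥) : SDList ↥(Subgroup.normalClosure (A : Set G)) :=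
  factor_of_inf hSD d.h2 hO d.prod d.sA (d.inf_closure hO hZ)

end Fused

/-- The main theorem, from the quasi-dihedral classification. -/
theorem main (hSD : Invol.AbgConsumers.SDStmt.{u}) (h2 : ∀ H : Subgroup G, H.index ≠ 2)
    (hO : Cfsg.oddCore G = ⊥) (hZ : Subgroup.center G = ⊥) (S : Sylow 2 G) (S₁ S₂ : Subgroup G)
    (hS : Cfsg.IsInternalDirectProduct S₁ S₂ (S : Subgroup G))
    (h₁ : Cfsg.IsQuasiDihedral ↥S₁) (h₂ : Cfsg.IsQuasiDihedral ↥S₂) :
    ∃ N : Subgroup G, N.Normal ∧ Odd N.index ∧ ∃ F₁ F₂ : Subgroup G,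
      Cfsg.IsInternalDirectProduct F₁ F₂ N ∧ SDList ↥F₁ ∧ SDList ↥F₂ := by
  obtain ⟨-, -, hc, hd, hsup⟩ := hS
  obtain ⟨n, x, y, hA⟩ := exists_sd h₁
  obtain ⟨m, x', y', hB⟩ := exists_sd h₂
  obtain ⟨A, B, x₁, y₁, x₁', y₁', d⟩ := Data.exists_fused (P := S)
    ⟨fun N _ => h2 N, ⟨hc, hd, hsup⟩, hA, hB⟩
  haveI : Fact (Nat.Prime 2) := ⟨Nat.prime_two⟩
  set N₁ := Subgroup.normalClosure (A : Set G)
  set N₂ := Subgroup.normalClosure (B : Set G)
  have hle : (S : Subgroup G) ≤ N₁ ⊔ N₂ :=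
    d.pair.sup ▸ sup_le_sup Subgroup.le_normalClosure Subgroup.le_normalClosure
  refine ⟨N₁ ⊔ N₂, Subgroup.sup_normal N₁ N₂, Nat.odd_iff.2 (Nat.two_dvd_ne_zero.1 fun h =>
      S.not_dvd_index (h.trans (Subgroup.index_dvd_of_le hle))), N₁, N₂,
    ⟨le_sup_left, le_sup_right, fun p hp q hq => (d.closures_commute hO p hp q hq).eq,
      d.closures_inf hO hZ, rfl⟩, d.factor hSD hO hZ, d.swap.factor hSD hO hZ⟩

end Cfsg.Agent.Fus.SDProduct
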