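import Cfsg.Agent.Lib.Fus.SDProduct.Twist
import Cfsg.Agent.Lib.Fus.SDProduct.Move

/-!
# The classes of the involutions
-/

set_option linter.unusedSectionVars false
set_option linter.style.haveILetI false

namespace Cfsg.Agent.Fus.SDProduct

open Cfsg.Agent.ProdFus.Split (Pair InvolClosed conj_mul' commute_conj orderOf_two mul_self_two)

universe u

variable {G : Type u} [Group G] [Finite G]

/-- The reflections are conjugate to the central involution of their factor. -/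
structure Moved (P : Sylow 2 G) (A B : Subgroup G) (n m : ℕ) (x y x' y' : G) : Prop
    extends Data P A B n m x y x' y' where
  mA : ∃ g : G, g * y * g⁻¹ = aa n x ∧ g * aa m x' * g⁻¹ = aa m x' ∧
    ∀ p ∈ (P : Subgroup G), Commute p y → g * p * g⁻¹ ∈ (P : Subgroup G)
  mB : ∃ g : G, g * y' * g⁻¹ = aa m x' ∧ g * aa n x * g⁻¹ = aa n x ∧
    ∀ p ∈ (P : Subgroup G), Commute p y' → g * p * g⁻¹ ∈ (P : Subgroup G)

variable {P : Sylow 2 G} {A B : Subgroup G} {n m : ℕ} {x y x' y' : G}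

theorem Data.twist_refl (d : Data P A B n m x y x' y') :
    ∃ (A₁ : Subgroup G) (y₁ : G), Data P A₁ B n m x y₁ x' y' ∧
      ∃ g : G, g * y₁ * g⁻¹ = aa n x ∧ g * aa m x' * g⁻¹ = aa m x' ∧
        ∀ p ∈ (P : Subgroup G), Commute p y₁ → g * p * g⁻¹ ∈ (P : Subgroup G) := by
  obtain ⟨g, hg | hg, hb, hP⟩ := d.move_refl
  · exact ⟨A, y, d, g, hg, hb, hP⟩
  · obtain ⟨A₁, d₁, -, -⟩ := d.twist (β₁ := 1) (β₂ := aa m x') (.inl rfl) (.inr rfl)
    rw [mul_one] at d₁
    refine ⟨A₁, _, d₁, g, ?_, hb, fun p hp hc => hP p hp ?_⟩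
    · rw [conj_mul', hg, hb, mul_assoc, d.sB.a_sq, mul_one]
    · have := hc.mul_right (d.b_P hp).inv_right
      rwa [mul_inv_cancel_right] at this

theorem Data.exists_moved (d : Data P A B n m x y x' y') :
    ∃ (A₁ B₁ : Subgroup G) (y₁ y₁' : G), Moved P A₁ B₁ n m x y₁ x' y₁' := by
  obtain ⟨A₁, y₁, d₁, hA⟩ := d.twist_refl
  obtain ⟨B₁, y₁', d₂, hB⟩ := d₁.swap.twist_refl
  exact ⟨A₁, B₁, y₁, y₁', d₂.swap, hA, hB⟩

namespace Moved

variable (d : Moved P A B n m x y x' y')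
include d

theorem swap : Moved P B A m n x' y' x y := ⟨d.toData.swap, d.mB, d.mA⟩

theorem isConj_y : IsConj y (aa n x) := by
  obtain ⟨g, hg, -, -⟩ := d.mA
  exact isConj_iff.2 ⟨g, hg⟩

theorem isConj_invol {u : G} (hu : u ∈ A) (h2 : u * u = 1) (h1 : u ≠ 1) : IsConj u (aa n x) := by
  rcases d.sA.invol hu h2 with e | e | ⟨k, -, e⟩
  · exact absurd e h1
  · exact e ▸ IsConj.refl _
  · exact (isConj_iff.2 ⟨k, e.symm⟩).symm.trans d.isConj_y

theorem isConj_yb : IsConj (y * aa m x') (aa n x * aa m x') := by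
  obtain ⟨g, hg, hb, -⟩ := d.mA
  exact isConj_iff.2 ⟨g, by rw [conj_mul', hg, hb]⟩

theorem isConj_ay' : IsConj (aa n x * y') (aa n x * aa m x') := by
  obtain ⟨g, hg, ha, -⟩ := d.mB
  exact isConj_iff.2 ⟨g, by rw [conj_mul', hg, ha]⟩

/-- A product of two nontrivial involutions from the two factors. -/
theorem mixed {u v : G} (hu : u ∈ A) (hv : v ∈ B) (hu2 : u * u = 1) (hv2 : v * v = 1)
    (hu1 : u ≠ 1) (hv1 : v ≠ 1) :
    IsConj (u * v) (aa n x * aa m x') ∨ (u ≠ aa n x ∧ IsConj (u * v) (y * y')) := by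
  rcases d.sA.invol hu hu2 with e | e | ⟨k, hk, e⟩
  · exact absurd e hu1
  · subst e
    rcases d.sB.invol hv hv2 with e | e | ⟨k', hk', e⟩
    · exact absurd e hv1
    · subst e; exact .inl (IsConj.refl _)
    · subst e
      refine .inl ((isConj_iff.2 ⟨k', ?_⟩).symm.trans d.isConj_ay')
      rw [conj_mul', (d.pair.comm _ d.sA.a_mem k' (d.sB.C_le hk')).symm.eq, mul_inv_cancel_right]
  · subst e
    have hkA := d.sA.C_le hk
    have hua : k * y * k⁻¹ ≠ aa n x := fun e => d.sA.y_notC (by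
      have h1 : y = k⁻¹ * aa n x * k := by rw [← e]; group
      rw [h1]
      exact mul_mem (mul_mem (inv_mem hk) d.sA.a_C) hk)
    rcases d.sB.invol hv hv2 with e | e | ⟨k', hk', e⟩
    · exact absurd e hv1
    · subst e
      refine .inl ((isConj_iff.2 ⟨k, ?_⟩).symm.trans d.isConj_yb)
      rw [conj_mul', (d.pair.comm k hkA _ d.sB.a_mem).eq, mul_inv_cancel_right]
    · subst e
      refine .inr ⟨hua, (isConj_iff.2 ⟨k * k', ?_⟩).symm⟩
      have hk'B := d.sB.C_le hk'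
      have e1 : k' * y * k'⁻¹ = y :=
        mul_inv_eq_iff_eq_mul.2 (d.pair.comm y d.sA.y_mem k' hk'B).symm.eq
      have e2 : k * (k' * y' * k'⁻¹) * k⁻¹ = k' * y' * k'⁻¹ :=
        mul_inv_eq_iff_eq_mul.2 (d.pair.comm k hkA _
          (mul_mem (mul_mem hk'B d.sB.y_mem) (inv_mem hk'B))).eq
      calc k * k' * (y * y') * (k * k')⁻¹ =
          (k * (k' * y * k'⁻¹) * k⁻¹) * (k * (k' * y' * k'⁻¹) * k⁻¹) := by group
        _ = _ := by rw [e1, e2]

theorem not_yy' : ¬ IsConj (y * y') (aa n x) := by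
  intro hyy
  obtain ⟨g, hg⟩ := isConj_iff.1 hyy
  set T := ((P : Subgroup G) ⊓ Subgroup.centralizer ({y * y'} : Set G)).map
    (MulAut.conj g).toMonoidHom
  obtain ⟨c, hca, hcT⟩ := exists_into P (fun p hp => d.a_P hp)
    (T := T) ((P.isPGroup'.to_le inf_le_left).map _) (by
      rintro _ ⟨t, ht, rfl⟩
      rw [← hg]
      exact commute_conj g (Subgroup.mem_centralizer_singleton_iff.1 ht.2))
  have hyy' : Commute y y' := d.pair.comm y d.sA.y_mem y' d.sB.y_mem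
  have hP : ∀ w, w ∈ (P : Subgroup G) → Commute w (y * y') →
      c * g * w * (c * g)⁻¹ ∈ (P : Subgroup G) := fun w hw hwc => by
    have h1 := hcT (g * w * g⁻¹) ⟨w, ⟨hw, Subgroup.mem_centralizer_singleton_iff.2 hwc.eq⟩, rfl⟩
    simpa [mul_assoc] using h1
  obtain ⟨u, hu, v, hv, e⟩ := d.pair.split
    (hP y (d.pair.leA d.sA.y_mem) ((Commute.refl y).mul_right hyy'))
  obtain ⟨u', hu', v', hv', e'⟩ := d.pair.split
    (hP y' (d.pair.leB d.sB.y_mem) (hyy'.symm.mul_right (Commute.refl y')))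
  have hprod : u * u' * (v * v') = aa n x * 1 := by
    rw [← d.pair.mul_mul hv hu', ← e, ← e', ← conj_mul', mul_one,
      show c * g * (y * y') * (c * g)⁻¹ = c * (g * (y * y') * g⁻¹) * c⁻¹ by group, hg, hca]
  obtain ⟨huu, hvv⟩ := d.pair.uniq (mul_mem hu hu') d.sA.a_mem (mul_mem hv hv') (one_mem B) hprod
  have hsq : u * v * (u * v) = 1 ∧ u' * v' * (u' * v') = 1 := by
    rw [← e, ← e', ← conj_mul', ← conj_mul', d.sA.y_sq, d.sB.y_sq]; exact ⟨by group, by group⟩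
  rw [d.pair.sq hu hv, d.pair.sq hu' hv', d.pair.eq_one_iff (mul_mem hu hu) (mul_mem hv hv),
    d.pair.eq_one_iff (mul_mem hu' hu') (mul_mem hv' hv')] at hsq
  obtain ⟨⟨hu2, hv2⟩, hu'2, hv'2⟩ := hsq
  have hy'b : IsConj (u' * v') (aa m x') :=
    (isConj_iff.2 ⟨_, e'⟩).symm.trans d.swap.isConj_y
  have hya : IsConj (u * v) (aa n x) := (isConj_iff.2 ⟨_, e⟩).symm.trans d.isConj_y
  have hnab : ¬ IsConj (aa n x) (aa m x') ∧ ¬ IsConj (aa n x) (aa n x * aa m x') :=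
    ⟨fun h => (isConj_iff.1 h).elim fun k hk => d.not_conj_ab.1 hk,
      fun h => (isConj_iff.1 h).elim fun k hk => d.not_conj_ab.2 hk⟩
  have hnb : ¬ IsConj (aa m x') (aa n x * aa m x') := fun h =>
    (isConj_iff.1 h).elim fun k hk => d.toData.swap.not_conj_ab.2 (hk.trans d.ab_comm)
  by_cases hv1 : v' = 1
  · rw [hv1, mul_one] at hy'b
    by_cases hu1 : u' = 1
    · exact Invol.ne_one_of_orderOf_two d.sB.oy (conj_eq_one_iff.1 (by rw [e', hu1, hv1, one_mul]))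
    · exact hnab.1 ((d.isConj_invol hu' hu'2 hu1).symm.trans hy'b)
  by_cases hu1 : u' = 1
  · have hua : u = aa n x := by rw [← huu, hu1, mul_one]
    have hv0 : v ≠ 1 := fun h => hv1 (by rw [← hvv, h, one_mul])
    rcases d.mixed hu hv hu2 hv2 (hua ▸ d.sA.a_ne) hv0 with h | ⟨hne, -⟩
    · exact hnab.2 (hya.symm.trans h)
    · exact hne hua
  · rcases d.mixed hu' hv' hu'2 hv'2 hu1 hv1 with h | ⟨-, h⟩
    · exact hnb (hy'b.symm.trans h)
    · exact hnab.1 (hyy.symm.trans (h.symm.trans hy'b))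

theorem involClosed : InvolClosed P A := by
  intro w hw hw2 g hg
  obtain ⟨u, hu, v, hv, e⟩ := d.pair.split hg
  have hsq : u * v * (u * v) = 1 := by rw [← e, ← conj_mul', mul_self_two hw2]; group
  rw [d.pair.sq hu hv, d.pair.eq_one_iff (mul_mem hu hu) (mul_mem hv hv)] at hsq
  have hwa : IsConj (u * v) (aa n x) := (isConj_iff.2 ⟨g, e⟩).symm.trans
    (d.isConj_invol hw (mul_self_two hw2) (Invol.ne_one_of_orderOf_two hw2))
  by_cases hv1 : v = 1
  · rw [e, hv1, mul_one]; exact hu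
  by_cases hu1 : u = 1
  · rw [hu1, one_mul] at hwa
    obtain ⟨k, hk⟩ := isConj_iff.1 (hwa.symm.trans (d.swap.isConj_invol hv hsq.2 hv1))
    exact absurd hk d.not_conj_ab.1
  rcases d.mixed hu hv hsq.1 hsq.2 hu1 hv1 with h | ⟨-, h⟩
  · obtain ⟨k, hk⟩ := isConj_iff.1 (hwa.symm.trans h)
    exact absurd hk d.not_conj_ab.2
  · exact absurd (h.symm.trans hwa) d.not_yy'

end Moved

end Cfsg.Agent.Fus.SDProduct
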