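import Cfsg.Agent.Lib.Invol.QuasiDihedral
import Mathlib

/-!
# A quasi-dihedral subgroup of a group
-/

set_option linter.unusedSectionVars false
set_option linter.style.haveILetI false

namespace Cfsg.Agent.Fus.SDProduct

open Cfsg.Agent.Invol (QD qq)
open scoped commutatorElement

universe u

variable {G : Type u} [Group G]

/-- The central involution of a quasi-dihedral group with cyclic part generated by `x`. -/
abbrev aa (n : ℕ) (x : G) : G := x ^ (2 * qq n)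

/-- An element of order four of the cyclic part. -/
abbrev cc (n : ℕ) (x : G) : G := x ^ qq n

/-- `A` is quasi-dihedral with the given generators. -/
structure SD (A : Subgroup G) (n : ℕ) (x y : G) : Prop where
  hn : 3 ≤ n
  x_mem : x ∈ A
  y_mem : y ∈ A
  card : Nat.card A = 2 ^ (n + 1)
  ox : orderOf x = 2 ^ n
  oy : orderOf y = 2
  conj : y * x * y⁻¹ = x ^ (2 ^ (n - 1) - 1)

theorem exists_sd {A : Subgroup G} (h : Cfsg.IsQuasiDihedral A) :
    ∃ n x y, SD A n x y := by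
  obtain ⟨n, hn, hc, ⟨x, hxA⟩, ⟨y, hyA⟩, hx, hy, hxy⟩ := h
  exact ⟨n, x, y, hn, hxA, hyA, hc, by rwa [Subgroup.orderOf_mk] at hx,
    by rwa [Subgroup.orderOf_mk] at hy, by simpa using congrArg Subtype.val hxy⟩

namespace SD

variable {A : Subgroup G} {n : ℕ} {x y : G} (h : SD A n x y)
include h

theorem qd : QD (↥A) n ⟨x, h.x_mem⟩ ⟨y, h.y_mem⟩ :=
  ⟨h.hn, h.card, by rw [Subgroup.orderOf_mk, h.ox], by rw [Subgroup.orderOf_mk, h.oy],
    Subtype.ext (by simpa using h.conj)⟩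

theorem xz_mem (i : ℤ) : x ^ i ∈ A := zpow_mem h.x_mem i

theorem xy_mem (i : ℤ) : x ^ i * y ∈ A := mul_mem (h.xz_mem i) h.y_mem

theorem C_le : Subgroup.zpowers x ≤ A := Subgroup.zpowers_le.2 h.x_mem

theorem a_mem : aa n x ∈ A := h.xz_mem _

theorem a_C : aa n x ∈ Subgroup.zpowers x := ⟨_, rfl⟩

theorem c_mem : cc n x ∈ A := h.xz_mem _

theorem c_C : cc n x ∈ Subgroup.zpowers x := ⟨_, rfl⟩

theorem cases {u : G} (hu : u ∈ A) : ∃ i : ℤ, u = x ^ i ∨ u = x ^ i * y := by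
  obtain ⟨i, e | e⟩ := h.qd.cases' ⟨u, hu⟩
  · exact ⟨i, .inl (by simpa using congrArg Subtype.val e)⟩
  · exact ⟨i, .inr (by simpa using congrArg Subtype.val e)⟩

theorem y_sq : y * y = 1 := by simpa using congrArg Subtype.val h.qd.y_mul_self

theorem notC (i : ℤ) : x ^ i * y ∉ Subgroup.zpowers x := by
  intro hm
  obtain ⟨j, hj⟩ := Subgroup.mem_zpowers_iff.1 hm
  exact h.qd.zpow_mul_y_ne i j (Subtype.ext (by simpa using hj.symm))

theorem y_notC : y ∉ Subgroup.zpowers x := by simpa using h.notC 0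

theorem xy_notC : x * y ∉ Subgroup.zpowers x := by simpa using h.notC 1

theorem mul_mem_C {p q : G} (hp : p ∈ A) (hq : q ∈ A) :
    p * q ∈ Subgroup.zpowers x ↔ (p ∈ Subgroup.zpowers x ↔ q ∈ Subgroup.zpowers x) := by
  have key : ∀ w : A, w ∈ Subgroup.zpowers (⟨x, h.x_mem⟩ : A) ↔
      (w : G) ∈ Subgroup.zpowers x := fun w => by
    constructor
    · rintro ⟨i, rfl⟩
      exact ⟨i, by simp⟩
    · rintro ⟨i, hi⟩
      exact ⟨i, Subtype.ext (by simpa using hi)⟩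
  simpa only [key, Subgroup.coe_mul] using
    Subgroup.mul_mem_iff_of_index_two h.qd.index_zpowers (a := ⟨p, hp⟩) (b := ⟨q, hq⟩)

theorem zpow_eq {i j : ℤ} : x ^ i = x ^ j ↔ 4 * qq n ∣ i - j := by
  rw [← h.qd.zpow_eq, Subtype.ext_iff]
  simp

theorem zpow_eq_one {i : ℤ} : x ^ i = 1 ↔ 4 * qq n ∣ i := by
  simpa using h.zpow_eq (i := i) (j := 0)

theorem conj_zpow (i : ℤ) : y * x ^ i * y⁻¹ = x ^ (i * (2 * qq n - 1)) := by
  simpa using congrArg Subtype.val (h.qd.conj_zpow i)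

theorem sq_out (i : ℤ) : x ^ i * y * (x ^ i * y) = x ^ (i * (2 * qq n)) := by
  simpa using congrArg Subtype.val (h.qd.sq_mul_y i)

theorem a_ord : orderOf (aa n x) = 2 := by
  have e : (((⟨x, h.x_mem⟩ : A) ^ (2 * qq n) : A) : G) = aa n x := by simp
  rw [← e, Subgroup.orderOf_coe]
  exact h.qd.orderOf_z

theorem a_ne : aa n x ≠ 1 := fun e => by
  have := h.a_ord
  rw [e, orderOf_one] at this
  omega

theorem a_sq : aa n x * aa n x = 1 := by rw [← pow_two, ← h.a_ord, pow_orderOf_eq_one]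

theorem a_central {u : G} (hu : u ∈ A) : Commute u (aa n x) := by
  simpa [Commute, SemiconjBy] using congrArg Subtype.val (h.qd.z_central ⟨u, hu⟩)

theorem c_ord : orderOf (cc n x) = 4 := by
  have e : (((⟨x, h.x_mem⟩ : A) ^ qq n : A) : G) = cc n x := by simp
  rw [← e, Subgroup.orderOf_coe]
  exact h.qd.orderOf_quarter

theorem c_sq : cc n x * cc n x = aa n x := by
  rw [aa, cc, ← zpow_add, two_mul]

theorem c_conj : y * cc n x * y⁻¹ = (cc n x)⁻¹ := by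
  simpa using congrArg Subtype.val h.qd.conj_y_quarter

theorem conj_x {u : G} (hu : u ∈ A) : ∃ q : ℤ, Odd q ∧ u * x * u⁻¹ = x ^ q := by
  obtain ⟨i, rfl | rfl⟩ := h.cases hu
  · exact ⟨1, odd_one, by rw [zpow_one, (Commute.refl x).zpow_left i |>.eq, mul_inv_cancel_right]⟩
  · refine ⟨2 * qq n - 1, ⟨qq n - 1, by ring⟩, ?_⟩
    have h1 := h.conj_zpow 1
    rw [zpow_one, one_mul] at h1
    calc x ^ i * y * x * (x ^ i * y)⁻¹ = x ^ i * (y * x * y⁻¹) * (x ^ i)⁻¹ := by group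
      _ = x ^ (2 * qq n - 1) := by
        rw [h1, (Commute.zpow_zpow (Commute.refl x) i _).eq, mul_inv_cancel_right]

theorem conj_C {u w : G} (hu : u ∈ A) (hw : w ∈ Subgroup.zpowers x) :
    u * w * u⁻¹ ∈ Subgroup.zpowers x := by
  obtain ⟨i, rfl⟩ := Subgroup.mem_zpowers_iff.1 hw
  obtain ⟨q, -, hq⟩ := h.conj_x hu
  rw [← _root_.conj_zpow, hq]
  exact zpow_mem (zpow_mem (Subgroup.mem_zpowers x) _) _

theorem comm_C {p q : G} (hp : p ∈ A) (hq : q ∈ A) : ⁅p, q⁆ ∈ Subgroup.zpowers x := by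
  rw [commutatorElement_def, show p * q * p⁻¹ * q⁻¹ = p * q * (p⁻¹ * q⁻¹) by group,
    h.mul_mem_C (mul_mem hp hq) (mul_mem (inv_mem hp) (inv_mem hq)), h.mul_mem_C hp hq,
    h.mul_mem_C (inv_mem hp) (inv_mem hq), inv_mem_iff, inv_mem_iff]

theorem a_comm : ∃ k : ℤ, ⁅y, x⁆ ^ k = aa n x := by
  obtain ⟨r, hr⟩ := h.qd.qq_even
  refine ⟨-qq n, ?_⟩
  have h1 := h.conj_zpow 1
  rw [zpow_one, one_mul] at h1
  rw [commutatorElement_def, h1, show x ^ (2 * qq n - 1) * x⁻¹ = x ^ (2 * qq n - 2) by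
    rw [← zpow_neg_one x, ← zpow_add]; congr 1; ring, ← zpow_mul, aa, h.zpow_eq]
  exact ⟨-r, by rw [hr]; ring⟩

theorem comm_sq {u w : G} (hu : u ∈ A) (huC : u ∉ Subgroup.zpowers x)
    (hw : w ∈ Subgroup.zpowers x) (hc : Commute u w) : w * w = 1 := by
  obtain ⟨j, rfl | rfl⟩ := h.cases hu
  · exact absurd ⟨j, rfl⟩ huC
  obtain ⟨i, rfl⟩ := Subgroup.mem_zpowers_iff.1 hw
  have h1 : x ^ j * y * x ^ i * (x ^ j * y)⁻¹ = x ^ (i * (2 * qq n - 1)) := by
    rw [show x ^ j * y * x ^ i * (x ^ j * y)⁻¹ = x ^ j * (y * x ^ i * y⁻¹) * (x ^ j)⁻¹ by group,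
      h.conj_zpow, (Commute.zpow_zpow (Commute.refl x) j _).eq, mul_inv_cancel_right]
  rw [hc.eq, mul_inv_cancel_right, h.zpow_eq] at h1
  obtain ⟨c, hc'⟩ := h1
  obtain ⟨e, he⟩ := h.qd.qq_sq
  rw [← zpow_add, h.zpow_eq_one]
  refine ⟨c * (1 + qq n) + i * e, ?_⟩
  linear_combination (1 + qq n) * hc' + 2 * i * he

theorem C_sq {u : G} (hu : u ∈ Subgroup.zpowers x) (h2 : u * u = 1) : u = 1 ∨ u = aa n x := by
  obtain ⟨i, rfl⟩ := Subgroup.mem_zpowers_iff.1 hu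
  rcases (h.qd.zpow_sq i).1 (Subtype.ext (by simpa using h2)) with e | e
  · exact .inl (by simpa using congrArg Subtype.val e)
  · exact .inr (by simpa using congrArg Subtype.val e)

theorem C_four {u : G} (hu : u ∈ Subgroup.zpowers x) (h2 : u * u = aa n x) :
    u = cc n x ∨ u = (cc n x)⁻¹ := by
  obtain ⟨i, rfl⟩ := Subgroup.mem_zpowers_iff.1 hu
  have h4 : orderOf ((⟨x, h.x_mem⟩ : A) ^ i) = 4 := by
    rw [← Subgroup.orderOf_coe, SubgroupClass.coe_zpow, show (4 : ℕ) = 2 ^ (1 + 1) from rfl]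
    refine orderOf_eq_prime_pow ?_ ?_
    · rw [pow_one, pow_two, h2]; exact h.a_ne
    · rw [show 2 ^ (1 + 1) = 2 * 2 from rfl, pow_mul, pow_two (x ^ i), h2, pow_two, h.a_sq]
  rcases h.qd.zpow_four h4 with e | e
  · exact .inl (by simpa using congrArg Subtype.val e)
  · exact .inr (by simpa [cc] using congrArg Subtype.val e)

theorem conj_out {i j : ℤ} (hij : 2 ∣ j - i) :
    ∃ k ∈ Subgroup.zpowers x, x ^ j * y = k * (x ^ i * y) * k⁻¹ := by
  obtain ⟨k, hk⟩ := h.qd.conj_mul_y hij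
  exact ⟨x ^ k, ⟨k, rfl⟩, by simpa using (congrArg Subtype.val hk).symm⟩

theorem sq_out_cases (i : ℤ) :
    (2 ∣ i ∧ x ^ i * y * (x ^ i * y) = 1) ∨
      (¬ 2 ∣ i ∧ x ^ i * y * (x ^ i * y) = aa n x) := by
  rw [h.sq_out]
  rcases Int.even_or_odd i with ⟨d, hd⟩ | ⟨d, hd⟩
  · exact .inl ⟨⟨d, by omega⟩, h.zpow_eq_one.2 ⟨d, by rw [hd]; ring⟩⟩
  · exact .inr ⟨by omega, h.zpow_eq.2 ⟨d, by rw [hd]; ring⟩⟩

theorem invol {u : G} (hu : u ∈ A) (h2 : u * u = 1) :
    u = 1 ∨ u = aa n x ∨ ∃ k ∈ Subgroup.zpowers x, u = k * y * k⁻¹ := by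
  obtain ⟨i, rfl | rfl⟩ := h.cases hu
  · rcases h.C_sq (zpow_mem (Subgroup.mem_zpowers x) i) h2 with e | e
    · exact .inl e
    · exact .inr (.inl e)
  · rcases h.sq_out_cases i with ⟨hi, -⟩ | ⟨-, e⟩
    · obtain ⟨k, hk, e⟩ := h.conj_out (i := 0) (j := i) (by simpa using hi)
      exact .inr (.inr ⟨k, hk, by simpa using e⟩)
    · exact absurd (e.symm.trans h2) h.a_ne

theorem four {u : G} (hu : u ∈ A) (h2 : u * u = aa n x) :
    u = cc n x ∨ u = (cc n x)⁻¹ ∨ ∃ k ∈ Subgroup.zpowers x, u = k * (x * y) * k⁻¹ := by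
  obtain ⟨i, rfl | rfl⟩ := h.cases hu
  · rcases h.C_four ⟨i, rfl⟩ h2 with e | e
    · exact .inl e
    · exact .inr (.inl e)
  · rcases h.sq_out_cases i with ⟨-, e⟩ | ⟨hi, -⟩
    · exact absurd (h2.symm.trans e) h.a_ne
    · obtain ⟨k, hk, e⟩ := h.conj_out (i := 1) (j := i) (by omega)
      exact .inr (.inr ⟨k, hk, by simpa using e⟩)

theorem mem_C_of_sq {u : G} (hu : u ∈ A) (h1 : u * u ≠ 1) (h2 : u * u ≠ aa n x) :
    u ∈ Subgroup.zpowers x := by
  obtain ⟨i, rfl | rfl⟩ := h.cases hu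
  · exact ⟨i, rfl⟩
  · rcases h.sq_out_cases i with ⟨-, e⟩ | ⟨-, e⟩
    · exact absurd e h1
    · exact absurd e h2

theorem xy_sq : x * y * (x * y) = aa n x := by
  rcases h.sq_out_cases 1 with ⟨hd, -⟩ | ⟨-, e⟩
  · omega
  · simpa using e

theorem cy_sq : cc n x * y * (cc n x * y) = 1 := by
  rcases h.sq_out_cases (qq n) with ⟨-, e⟩ | ⟨hd, -⟩
  · exact e
  · exact absurd (by obtain ⟨r, hr⟩ := h.qd.qq_even; exact ⟨r, hr⟩) hd

theorem C_comm {p q : G} (hp : p ∈ Subgroup.zpowers x) (hq : q ∈ Subgroup.zpowers x) :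
    Commute p q := by
  obtain ⟨i, rfl⟩ := Subgroup.mem_zpowers_iff.1 hp
  obtain ⟨j, rfl⟩ := Subgroup.mem_zpowers_iff.1 hq
  exact Commute.zpow_zpow (Commute.refl x) i j

theorem center {u : G} (hu : u ∈ A) (hc : ∀ p ∈ A, Commute p u) : u = 1 ∨ u = aa n x := by
  have huC : u ∈ Subgroup.zpowers x := by
    by_contra huC
    have := h.comm_sq hu huC (Subgroup.mem_zpowers x) (hc x h.x_mem).symm
    rw [← zpow_one x, ← zpow_add, h.zpow_eq_one] at this
    obtain ⟨c, hc⟩ := this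
    obtain ⟨r, hr⟩ := h.qd.qq_even
    rw [hr] at hc
    have : 1 = 4 * (r * c) := by linarith
    generalize r * c = m at this
    omega
  exact h.C_sq huC (h.comm_sq h.y_mem h.y_notC huC (hc y h.y_mem))

/-- The centralizer in `A` of a noncentral element is abelian. -/
theorem cent_comm {u p q : G} (hu : u ∈ A) (h1 : u ≠ 1) (ha : u ≠ aa n x) (hp : p ∈ A)
    (hq : q ∈ A) (hpu : Commute p u) (hqu : Commute q u) : Commute p q := by
  by_cases huC : u ∈ Subgroup.zpowers x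
  · have hu2 : u * u ≠ 1 := fun e => (h.C_sq huC e).elim h1 ha
    have hmem : ∀ {p}, p ∈ A → Commute p u → p ∈ Subgroup.zpowers x := fun hp hpu =>
      by_contra fun hn => hu2 (h.comm_sq hp hn huC hpu)
    exact h.C_comm (hmem hp hpu) (hmem hq hqu)
  · have hform : ∀ {p}, p ∈ A → Commute p u →
        ∃ e, (∀ w ∈ A, Commute w e) ∧ (p = e ∨ p = e * u⁻¹) := by
      intro p hp hpu
      have hcen : ∀ e : G, e = 1 ∨ e = aa n x → ∀ w ∈ A, Commute w e := by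
        rintro e (rfl | rfl) w hw
        exacts [Commute.one_right w, h.a_central hw]
      by_cases hpC : p ∈ Subgroup.zpowers x
      · exact ⟨p, hcen p (h.C_sq hpC (h.comm_sq hu huC hpC hpu.symm)), .inl rfl⟩
      · have hm : p * u ∈ Subgroup.zpowers x := (h.mul_mem_C hp hu).2 (iff_of_false hpC huC)
        exact ⟨p * u, hcen _ (h.C_sq hm (h.comm_sq hu huC hm
          (hpu.symm.mul_right (Commute.refl u)))), .inr (by group)⟩
    obtain ⟨e, he, rfl | rfl⟩ := hform hp hpu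
    · exact (he q hq).symm
    · obtain ⟨f, hf, rfl | rfl⟩ := hform hq hqu
      · exact hf _ hp
      · have h1 : Commute e (f * u⁻¹) := (he _ hq).symm
        have h2 : Commute u⁻¹ (f * u⁻¹) :=
          (hf _ (inv_mem hu)).mul_right (Commute.refl _)
        exact h1.mul_left h2

/-- The dihedral maximal subgroup. -/
def dd : Subgroup G := (h.qd.sub 2 (QD.two_dvd n) 0).map A.subtype

theorem dd_le : h.dd ≤ A := by
  rintro _ ⟨w, -, rfl⟩
  exact w.2

theorem zpow_mem_dd {i : ℤ} : x ^ i ∈ h.dd ↔ 2 ∣ i := by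
  rw [dd, show x ^ i = A.subtype ((⟨x, h.x_mem⟩ : A) ^ i) by simp,
    Subgroup.mem_map_iff_mem Subtype.val_injective, h.qd.zpow_mem_sub]

theorem out_mem_dd {i : ℤ} : x ^ i * y ∈ h.dd ↔ 2 ∣ i := by
  rw [dd, show x ^ i * y = A.subtype ((⟨x, h.x_mem⟩ : A) ^ i * ⟨y, h.y_mem⟩) by simp,
    Subgroup.mem_map_iff_mem Subtype.val_injective, h.qd.mul_y_mem_sub]
  simp

theorem dd_index : (h.dd.subgroupOf A).index = 2 := by
  have e : h.dd.subgroupOf A = h.qd.sub 2 (QD.two_dvd n) 0 :=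
    Subgroup.comap_map_eq_self_of_injective Subtype.val_injective _
  rw [e]
  haveI := h.qd.finite
  have h1 := Subgroup.card_mul_index (h.qd.sub 2 (QD.two_dvd n) 0)
  have h2 : orderOf ((⟨x, h.x_mem⟩ : A) ^ (2 : ℤ)) = 2 ^ (n - 1) := by
    rw [← Subgroup.orderOf_coe, SubgroupClass.coe_zpow, show x ^ (2 : ℤ) = x ^ (2 : ℕ) from zpow_natCast x 2,
      orderOf_pow' x two_ne_zero, h.ox, Nat.gcd_eq_right (dvd_pow_self 2 (by have := h.hn; omega)),
      show 2 ^ n = 2 * 2 ^ (n - 1) by rw [← pow_succ']; congr 1; have := h.hn; omega,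
      Nat.mul_div_cancel_left _ two_pos]
  rw [h.qd.card_sub, h2, h.card, ← pow_succ',
    show n - 1 + 1 = n by have := h.hn; omega, pow_succ 2 n] at h1
  exact Nat.eq_of_mul_eq_mul_left (pow_pos two_pos n) h1

theorem invol_mem_dd {u : G} (hu : u ∈ A) (h2 : u * u = 1) : u ∈ h.dd := by
  obtain ⟨i, rfl | rfl⟩ := h.cases hu
  · rcases h.C_sq (zpow_mem (Subgroup.mem_zpowers x) i) h2 with e | e
    · rw [e]; exact one_mem _
    · rw [e, aa, h.zpow_mem_dd]; exact dvd_mul_right _ _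
  · rcases h.sq_out_cases i with ⟨hi, -⟩ | ⟨-, e⟩
    · exact h.out_mem_dd.2 hi
    · exact absurd (e.symm.trans h2) h.a_ne

theorem xy_notDD : x * y ∉ h.dd := fun hm => by
  have := (h.out_mem_dd (i := 1)).1 (by simpa using hm)
  omega

theorem mem_C_of_dd {u : G} (hu : u ∈ h.dd) (h2 : u * u ≠ 1) : u ∈ Subgroup.zpowers x := by
  obtain ⟨i, rfl | rfl⟩ := h.cases (h.dd_le hu)
  · exact ⟨i, rfl⟩
  · rcases h.sq_out_cases i with ⟨-, e⟩ | ⟨hi, -⟩
    · exact absurd e h2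
    · exact absurd (h.out_mem_dd.1 hu) hi

end SD

end Cfsg.Agent.Fus.SDProduct
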