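import Cfsg.Agent.Lib.Fus.SDProduct.Central

/-!
# Twisting a quasi-dihedral factor by a central element of the other one
-/

set_option linter.unusedSectionVars false
set_option linter.style.haveILetI false

namespace Cfsg.Agent.Fus.SDProduct

open Cfsg.Agent.ProdFus.Split (Pair)

universe u

variable {G : Type u} [Group G] [Finite G]

theorem cc_mul {n : ℕ} (hn : 3 ≤ n) {x β : G} (hc : Commute x β) (h2 : β * β = 1) :
    cc n (x * β) = cc n x := by
  have h : β ^ (Invol.qq n) = 1 := by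
    rw [Invol.qq, show (2 : ℤ) ^ (n - 2) = 2 * 2 ^ (n - 3) by
      rw [← pow_succ']; congr 1; omega, zpow_mul, zpow_two, h2, one_zpow]
  rw [cc, cc, hc.mul_zpow, h, mul_one]

theorem aa_mul {n : ℕ} {x β : G} (hc : Commute x β) (h2 : β * β = 1) :
    aa n (x * β) = aa n x := by
  rw [aa, aa, hc.mul_zpow, zpow_mul β, zpow_two, h2, one_zpow, mul_one]

namespace Data

variable {P : Sylow 2 G} {A B : Subgroup G} {n m : ℕ} {x y x' y' : G}
variable (d : Data P A B n m x y x' y')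
include d

open scoped Classical in
/-- The generators of `A` may be multiplied by central elements of square one of `B`. -/
theorem twist {β₁ β₂ : G} (h₁ : β₁ = 1 ∨ β₁ = aa m x') (h₂ : β₂ = 1 ∨ β₂ = aa m x') :
    ∃ A₁ : Subgroup G, Data P A₁ B n m (x * β₁) (y * β₂) x' y' ∧
      aa n (x * β₁) = aa n x ∧ cc n (x * β₁) = cc n x := by
  have hb : ∀ β : G, β = 1 ∨ β = aa m x' → β ∈ B ∧ β * β = 1 ∧
      ∀ p ∈ (P : Subgroup G), Commute p β := by
    rintro β (rfl | rfl)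
    · exact ⟨one_mem B, one_mul 1, fun p _ => Commute.one_right p⟩
    · exact ⟨d.sB.a_mem, d.sB.a_sq, fun p hp => d.b_P hp⟩
  obtain ⟨hβ₁, hq₁, hc₁⟩ := hb β₁ h₁
  obtain ⟨hβ₂, hq₂, hc₂⟩ := hb β₂ h₂
  let C₀ : Subgroup A := (Subgroup.zpowers x).subgroupOf A
  let D₀ : Subgroup A := d.sA.dd.subgroupOf A
  have hC : ∀ p q : A, p * q ∈ C₀ ↔ (p ∈ C₀ ↔ q ∈ C₀) := fun p q => by
    simpa [C₀, Subgroup.mem_subgroupOf] using d.sA.mul_mem_C p.2 q.2
  have hD : ∀ p q : A, p * q ∈ D₀ ↔ (p ∈ D₀ ↔ q ∈ D₀) := fun p q =>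
    Subgroup.mul_mem_iff_of_index_two d.sA.dd_index
  have hind : ∀ (K : Subgroup A) (β : G), β * β = 1 →
      (∀ p q : A, p * q ∈ K ↔ (p ∈ K ↔ q ∈ K)) → ∀ p q : A,
      (if p * q ∈ K then (1 : G) else β) =
        (if p ∈ K then 1 else β) * (if q ∈ K then 1 else β) := by
    intro K β hβ hK p q
    have := hK p q
    by_cases hp : p ∈ K <;> by_cases hq : q ∈ K <;> simp_all
  set χ : A → G := fun p => (if p ∈ D₀ then 1 else β₁) *
    (if p ∈ C₀ then 1 else β₂) with hχ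
  have hχB : ∀ p, χ p ∈ B := fun p => by
    refine mul_mem ?_ ?_ <;> split_ifs <;> first | exact one_mem B | assumption
  have hχc : ∀ p, ∀ w ∈ (P : Subgroup G), Commute w (χ p) := fun p w hw => by
    refine Commute.mul_right ?_ ?_ <;> split_ifs <;>
      first | exact Commute.one_right w | exact hc₁ w hw | exact hc₂ w hw
  have hχm : ∀ p q, χ (p * q) = χ p * χ q := by
    intro p q
    have hcomm : Commute β₂ β₁ := hc₁ β₂ (d.pair.leB hβ₂)
    have e₁ := hind D₀ β₁ hq₁ hD p q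
    have e₂ := hind C₀ β₂ hq₂ hC p q
    simp only [hχ]
    rw [e₁, e₂]
    have hcc : Commute (if p ∈ C₀ then (1 : G) else β₂)
        (if q ∈ D₀ then (1 : G) else β₁) := by
      split_ifs <;> first | exact Commute.one_left _ | exact Commute.one_right _ | exact hcomm
    simp only [mul_assoc]
    rw [← mul_assoc (if q ∈ D₀ then (1 : G) else β₁), ← hcc.eq, mul_assoc]
  let φ : A →* G := MonoidHom.mk' (fun p => (p : G) * χ p) fun p q => by
    rw [Subgroup.coe_mul, hχm]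
    calc (p : G) * q * (χ p * χ q) = p * ((q : G) * χ p) * χ q := by group
      _ = p * (χ p * (q : G)) * χ q := by rw [(hχc p q (d.pair.leA q.2)).eq]
      _ = _ := by group
  have hone : ∀ (p : A) {v : G}, v ∈ B → φ p = v → p = 1 := fun p v hv e =>
    Subtype.ext (d.pair.uniq p.2 (one_mem A) (hχB p) hv (e.trans (one_mul v).symm)).1
  have hinj : Function.Injective φ :=
    (injective_iff_map_eq_one φ).2 fun p hp => hone p (one_mem B) hp
  have hx : φ ⟨x, d.sA.x_mem⟩ = x * β₁ := by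
    have h1 : (⟨x, d.sA.x_mem⟩ : A) ∉ D₀ := fun hm => by
      have := (d.sA.zpow_mem_dd (i := 1)).1 (by simpa [D₀, Subgroup.mem_subgroupOf] using hm)
      omega
    have h2 : (⟨x, d.sA.x_mem⟩ : A) ∈ C₀ := Subgroup.mem_zpowers x
    show x * χ _ = _
    simp only [hχ]
    rw [if_neg h1, if_pos h2, mul_one]
  have hy : φ ⟨y, d.sA.y_mem⟩ = y * β₂ := by
    have h1 : (⟨y, d.sA.y_mem⟩ : A) ∈ D₀ := by
      have := (d.sA.out_mem_dd (i := 0)).2 (dvd_zero 2)
      simpa [D₀, Subgroup.mem_subgroupOf] using this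
    have h2 : (⟨y, d.sA.y_mem⟩ : A) ∉ C₀ := d.sA.y_notC
    show y * χ _ = _
    simp only [hχ]
    rw [if_pos h1, if_neg h2, one_mul]
  refine ⟨φ.range, ⟨d.h2, ⟨?_, ?_, ?_⟩, ⟨d.sA.hn, ⟨_, hx⟩, ⟨_, hy⟩, ?_, ?_, ?_, ?_⟩, d.sB⟩,
    aa_mul (hc₁ x (d.pair.leA d.sA.x_mem)) hq₁,
    cc_mul d.sA.hn (hc₁ x (d.pair.leA d.sA.x_mem)) hq₁⟩
  · rintro _ ⟨p, rfl⟩ v hv
    exact (d.pair.comm p p.2 v hv).mul_left (hχc p v (d.pair.leB hv)).symm
  · rw [eq_bot_iff]
    rintro _ ⟨⟨p, rfl⟩, hp⟩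
    rw [Subgroup.mem_bot, hone p hp rfl, map_one]
  · refine le_antisymm (sup_le ?_ d.pair.leB) ?_
    · rintro _ ⟨p, rfl⟩
      exact d.pair.mul_mem' p.2 (hχB p)
    · rw [← d.pair.sup]
      refine sup_le (fun w hw => ?_) le_sup_right
      rw [show w = φ ⟨w, hw⟩ * (χ ⟨w, hw⟩)⁻¹ from (mul_inv_cancel_right _ _).symm]
      exact Subgroup.mul_mem_sup ⟨_, rfl⟩ (inv_mem (hχB _))
  · rw [← Nat.card_congr (MonoidHom.ofInjective hinj).toEquiv, d.sA.card]
  · rw [← hx, orderOf_injective φ hinj, Subgroup.orderOf_mk, d.sA.ox]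
  · rw [← hy, orderOf_injective φ hinj, Subgroup.orderOf_mk, d.sA.oy]
  · rw [← hx, ← hy, ← map_inv, ← map_mul, ← map_mul, ← map_pow]
    exact congrArg φ (Subtype.ext (by simpa using d.sA.conj))

end Data

end Cfsg.Agent.Fus.SDProduct
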